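import Mathlib.GroupTheory.SpecificGroups.Alternating
import Mathlib.GroupTheory.OrderOfElement

/-!
Finite facts about the alternating group of degree five.
-/

set_option autoImplicit false

open Equiv

namespace CfsgLib.J2Order

theorem alt5_pairs : ((Finset.univ : Finset (alternatingGroup (Fin 5) × alternatingGroup (Fin 5))).filter
    fun p => p.1 ≠ 1 ∧ p.1 * p.1 = 1 ∧ p.2 * p.2 = 1 ∧ (p.1 * p.2) ^ 15 = 1).card = 195 := by
  decide +kernel

theorem alt5_invol : ((Finset.univ : Finset (alternatingGroup (Fin 5))).filter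
    fun p => p ≠ 1 ∧ p * p = 1).card = 15 := by
  decide +kernel

theorem alt5_odd_iff : ∀ a : alternatingGroup (Fin 5), a ^ 15 = 1 ∨ a ^ 2 = 1 := by
  decide +kernel

theorem alt5_five : ∃ a : alternatingGroup (Fin 5), a ^ 5 = 1 ∧ a ≠ 1 := by
  decide +kernel

theorem perm5_fix : ∀ s : Perm (Fin 5), Perm.sign s = 1 → s * s = 1 → s ≠ 1 →
    ∃ i, s i = i ∧ ∀ j, s j = j → j = i := by
  decide +kernel

end CfsgLib.J2Order
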