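import Mathlib.GroupTheory.OrderOfElement
import Mathlib.GroupTheory.Subgroup.Centralizer
import Mathlib.Algebra.BigOperators.Group.Finset.Basic
import Mathlib.Tactic.Group
import Mathlib.Algebra.Group.Conj

/-!
Thompson's order formula for a group with two classes of involutions.
-/

set_option autoImplicit false

open scoped Classical

namespace CfsgLib.J2Order

variable {G : Type*} [Group G] [Fintype G]

/-- The pairs of conjugates of `z` and `t` whose product has `i` among its powers. -/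
noncomputable def pairsAt (z t i : G) : Finset (G × G) :=
  Finset.univ.filter fun p => IsConj z p.1 ∧ IsConj t p.2 ∧ i ∈ Subgroup.zpowers (p.1 * p.2)

/-- The class of `z`. -/
noncomputable def cls (z : G) : Finset G := Finset.univ.filter fun x => IsConj z x

theorem card_cls (z : G) :
    (cls z).card * Nat.card (Subgroup.centralizer ({z} : Set G)) = Fintype.card G := by
  rw [← Finset.card_univ, Finset.card_eq_sum_card_fiberwise (f := fun g => g * z * g⁻¹) (t := cls z)
    (s := Finset.univ) (fun g _ => Finset.mem_filter.2 ⟨Finset.mem_univ _, isConj_iff.2 ⟨g, rfl⟩⟩)]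
  rw [Finset.sum_const_nat]
  intro x hx
  obtain ⟨g0, hg0⟩ := isConj_iff.1 (Finset.mem_filter.1 hx).2
  rw [show Nat.card (Subgroup.centralizer ({z} : Set G)) =
      (Finset.univ.filter fun c => c * z = z * c).card by
    rw [Nat.card_eq_fintype_card, ← Fintype.card_coe]
    exact Fintype.card_congr (Equiv.subtypeEquivRight fun c => by
      rw [Finset.mem_filter, Subgroup.mem_centralizer_singleton_iff]; simp [eq_comm])]
  refine (Finset.card_bij (fun c _ => g0 * c) ?_ (fun _ _ _ _ h => mul_left_cancel h) ?_).symm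
  · intro c hc
    rw [Finset.mem_filter] at hc ⊢
    refine ⟨Finset.mem_univ _, ?_⟩
    rw [show g0 * c * z * (g0 * c)⁻¹ = g0 * (c * z) * c⁻¹ * g0⁻¹ by group, hc.2, ← hg0]
    group
  · intro g hg
    rw [Finset.mem_filter] at hg
    refine ⟨g0⁻¹ * g, Finset.mem_filter.2 ⟨Finset.mem_univ _, ?_⟩, by group⟩
    calc g0⁻¹ * g * z = g0⁻¹ * (g * z * g⁻¹) * g := by group
      _ = g0⁻¹ * (g0 * z * g0⁻¹) * g := by rw [hg.2, hg0]
      _ = z * (g0⁻¹ * g) := by group

theorem card_pairsAt_conj (z t i g : G) :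
    (pairsAt z t (g * i * g⁻¹)).card = (pairsAt z t i).card := by
  have key : ∀ (g i : G) (p : G × G), p ∈ pairsAt z t i →
      (g * p.1 * g⁻¹, g * p.2 * g⁻¹) ∈ pairsAt z t (g * i * g⁻¹) := by
    intro g i p hp
    simp only [pairsAt, Finset.mem_filter, Finset.mem_univ, true_and] at hp ⊢
    obtain ⟨h1, h2, h3⟩ := hp
    refine ⟨h1.trans (isConj_iff.2 ⟨g, rfl⟩), h2.trans (isConj_iff.2 ⟨g, rfl⟩), ?_⟩
    obtain ⟨k, hk⟩ := Subgroup.mem_zpowers_iff.1 h3
    refine Subgroup.mem_zpowers_iff.2 ⟨k, ?_⟩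
    rw [show g * p.1 * g⁻¹ * (g * p.2 * g⁻¹) = g * (p.1 * p.2) * g⁻¹ by group, conj_zpow, hk]
  refine (Finset.card_bij (fun p _ => (g * p.1 * g⁻¹, g * p.2 * g⁻¹)) (fun p hp => key g i p hp)
    (fun p _ r _ h => ?_) fun p hp => ⟨(g⁻¹ * p.1 * g, g⁻¹ * p.2 * g), ?_, ?_⟩).symm
  · simp only [Prod.mk.injEq, mul_left_inj, mul_right_inj] at h
    exact Prod.ext h.1 h.2
  · have := key g⁻¹ _ p hp
    simp only [inv_inv] at this
    rwa [show g⁻¹ * (g * i * g⁻¹) * g = i by group] at this
  · ext <;> simp only <;> group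

theorem invol_unique {w i : G} (hi : i ≠ 1) (hi2 : i * i = 1) (h : i ∈ Subgroup.zpowers w) :
    i = w ^ (orderOf w / 2) := by
  rw [← mem_powers_iff_mem_zpowers, mem_powers_iff_mem_range_orderOf, Finset.mem_image] at h
  obtain ⟨j, hj, rfl⟩ := h
  rw [Finset.mem_range] at hj
  rw [← pow_add] at hi2
  have hj0 : j ≠ 0 := fun h => hi (by rw [h, pow_zero])
  obtain ⟨c, hc⟩ := orderOf_dvd_of_pow_eq_one hi2
  have hc1 : c = 1 := by
    rcases c with _ | _ | c
    · omega
    · rfl
    · rw [Nat.mul_succ, Nat.mul_succ] at hc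
      omega
  rw [hc1, mul_one] at hc
  rw [show orderOf w / 2 = j by omega]

/-- Nonconjugate involutions have a product of even order. -/
theorem exists_invol_zpowers {x y : G} (hx : x * x = 1) (hy : y * y = 1) (hne : ¬ IsConj x y) :
    ∃ i, i ≠ 1 ∧ i * i = 1 ∧ i ∈ Subgroup.zpowers (x * y) := by
  rcases Nat.even_or_odd (orderOf (x * y)) with ⟨m, hm⟩ | ⟨m, hm⟩
  · have hpos := orderOf_pos (x * y)
    refine ⟨(x * y) ^ m, pow_ne_one_of_lt_orderOf (by omega) (by omega), ?_, Subgroup.pow_mem _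
      (Subgroup.mem_zpowers _) _⟩
    rw [← pow_add, ← hm, pow_orderOf_eq_one]
  · exfalso
    apply hne
    have hx' : x⁻¹ = x := inv_eq_of_mul_eq_one_right hx
    have hy' : y⁻¹ = y := inv_eq_of_mul_eq_one_right hy
    have hflip : x * (x * y) ^ m * x⁻¹ = ((x * y) ^ m)⁻¹ := by
      rw [← conj_pow, ← inv_pow, mul_inv_rev, hx', hy', ← mul_assoc x x, hx, one_mul]
    have hinv : (x * y) ^ (2 * m) = y * x := by
      have h1 : (x * y) ^ (2 * m) * (x * y) = 1 := by rw [← pow_succ, ← hm, pow_orderOf_eq_one]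
      rw [eq_inv_of_mul_eq_one_left h1, mul_inv_rev, hx', hy']
    refine IsConj.trans (isConj_iff.2 ⟨((x * y) ^ m)⁻¹, rfl⟩) (isConj_iff.2 ⟨x, ?_⟩)
    set r := (x * y) ^ m with hr
    have e : x * r = r⁻¹ * x := by rw [← mul_inv_eq_iff_eq_mul]; exact hflip
    rw [inv_inv, mul_assoc r⁻¹, e, ← mul_assoc r⁻¹, ← mul_inv_rev, hr, ← pow_add, ← two_mul, hinv,
      mul_inv_rev, hx', hy']
    rw [show x * (x * y * x) * x = (x * x) * y * (x * x) by group, hx]
    group

theorem order_formula (z t : G) (hz : orderOf z = 2) (ht : orderOf t = 2) (hzt : ¬ IsConj z t)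
    (hcl : ∀ x : G, orderOf x = 2 → IsConj x z ∨ IsConj x t) :
    Fintype.card G = (pairsAt z t z).card * Nat.card (Subgroup.centralizer ({t} : Set G)) +
      (pairsAt z t t).card * Nat.card (Subgroup.centralizer ({z} : Set G)) := by
  have inv2 : ∀ {a x : G}, orderOf a = 2 → IsConj a x → x ≠ 1 ∧ x * x = 1 := by
    intro a x ha hax
    obtain ⟨g, rfl⟩ := isConj_iff.1 hax
    have h2 : a * a = 1 := by rw [← pow_two, ← ha, pow_orderOf_eq_one]
    refine ⟨fun h => ?_, by rw [show g * a * g⁻¹ * (g * a * g⁻¹) = g * (a * a) * g⁻¹ by group, h2]; group⟩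
    rw [conj_eq_one_iff] at h
    rw [h, orderOf_one] at ha
    omega
  let f : G × G → G := fun p => (p.1 * p.2) ^ (orderOf (p.1 * p.2) / 2)
  set P := (cls z) ×ˢ (cls t) with hP
  have hfib : ∀ p ∈ P, f p ∈ cls z ∪ cls t := by
    intro p hp
    simp only [hP, Finset.mem_product, cls, Finset.mem_filter, Finset.mem_univ, true_and] at hp
    obtain ⟨i, hi, hi2, him⟩ := exists_invol_zpowers (inv2 hz hp.1).2 (inv2 ht hp.2).2
      fun h => hzt (hp.1.trans (h.trans hp.2.symm))
    have hfi : f p = i := (invol_unique hi hi2 him).symm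
    simp only [Finset.mem_union, cls, Finset.mem_filter, Finset.mem_univ, true_and, hfi]
    rcases hcl i (orderOf_eq_prime (by rw [pow_two]; exact hi2) hi) with h | h
    exacts [Or.inl h.symm, Or.inr h.symm]
  have hfilter : ∀ a : G, orderOf a = 2 → ∀ i ∈ cls a, P.filter (fun p => f p = i) = pairsAt z t i := by
    intro a ha i hi
    obtain ⟨hi1, hi2⟩ := inv2 ha (Finset.mem_filter.1 hi).2
    ext p
    simp only [hP, Finset.mem_filter, Finset.mem_product, cls, pairsAt, Finset.mem_univ, true_and]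
    constructor
    · rintro ⟨⟨h1, h2⟩, rfl⟩
      exact ⟨h1, h2, Subgroup.pow_mem _ (Subgroup.mem_zpowers _) _⟩
    · rintro ⟨h1, h2, h3⟩
      exact ⟨⟨h1, h2⟩, (invol_unique hi1 hi2 h3).symm⟩
  have hsum := Finset.card_eq_sum_card_fiberwise hfib
  have hdisj : Disjoint (cls z) (cls t) := Finset.disjoint_left.2 fun x h1 h2 =>
    hzt ((Finset.mem_filter.1 h1).2.trans (Finset.mem_filter.1 h2).2.symm)
  have hconst : ∀ a : G, orderOf a = 2 →
      ∑ i ∈ cls a, (P.filter fun p => f p = i).card = (cls a).card * (pairsAt z t a).card := by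
    intro a ha
    rw [Finset.sum_const_nat]
    intro i hi
    rw [hfilter a ha i hi]
    obtain ⟨g, rfl⟩ := isConj_iff.1 (Finset.mem_filter.1 hi).2
    exact card_pairsAt_conj z t a g
  rw [Finset.sum_union hdisj, hconst z hz, hconst t ht, hP, Finset.card_product] at hsum
  have e1 := card_cls z
  have e2 := card_cls t
  set A := (cls z).card
  set B := (cls t).card
  set a := (pairsAt z t z).card
  set b := (pairsAt z t t).card
  set cz := Nat.card (Subgroup.centralizer ({z} : Set G))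
  set ct := Nat.card (Subgroup.centralizer ({t} : Set G))
  have key : (A * cz) * (B * ct) = (A * cz) * (a * ct) + (B * ct) * (b * cz) := by
    calc (A * cz) * (B * ct) = (A * B) * (cz * ct) := by ring
      _ = _ := by rw [hsum]; ring
  rw [e1, e2, ← Nat.mul_add] at key
  exact Nat.eq_of_mul_eq_mul_left Fintype.card_pos key

end CfsgLib.J2Order
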