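import Cfsg.Agent.Lib.J2Order.Local
import Cfsg.Agent.Lib.J2Order.Formula

/-!
The two counts for the pattern of `J2`.
-/

set_option autoImplicit false

open scoped Classical

namespace CfsgLib.J2Order

variable {G : Type*} [Group G] [Fintype G]

theorem mem_cent_of_zpowers {x y i : G} (hx : x * x = 1) (hy : y * y = 1) (hi : i * i = 1)
    (h : i ∈ Subgroup.zpowers (x * y)) : x * i = i * x ∧ y * i = i * y := by
  obtain ⟨k, rfl⟩ := Subgroup.mem_zpowers_iff.1 h
  have hx' : x⁻¹ = x := inv_eq_of_mul_eq_one_right hx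
  have hy' : y⁻¹ = y := inv_eq_of_mul_eq_one_right hy
  have hinv : ((x * y) ^ k)⁻¹ = (x * y) ^ k := inv_eq_of_mul_eq_one_right hi
  constructor
  · have : x * (x * y) ^ k * x⁻¹ = (x * y) ^ k := by
      rw [← conj_zpow, show x * (x * y) * x⁻¹ = (x * y)⁻¹ by
        rw [mul_inv_rev, hx', hy', ← mul_assoc x x, hx, one_mul], inv_zpow, hinv]
    exact mul_inv_eq_iff_eq_mul.1 this
  · have : y * (x * y) ^ k * y⁻¹ = (x * y) ^ k := by
      rw [← conj_zpow, show y * (x * y) * y⁻¹ = (x * y)⁻¹ by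
        rw [mul_inv_rev, hx', hy', mul_assoc, mul_assoc, hy, mul_one], inv_zpow, hinv]
    exact mul_inv_eq_iff_eq_mul.1 this

theorem orderTwo {x : G} (h : orderOf x = 2) : x ≠ 1 ∧ x * x = 1 := by
  refine ⟨fun e => ?_, by rw [← pow_two, ← h, pow_orderOf_eq_one]⟩
  rw [e, orderOf_one] at h
  omega

theorem orderTwo_of {x : G} (h1 : x ≠ 1) (h : x * x = 1) : orderOf x = 2 :=
  orderOf_eq_prime (by rw [pow_two]; exact h) h1

theorem order_of_conj {a x : G} (ha : orderOf a = 2) (h : IsConj a x) : orderOf x = 2 := by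
  obtain ⟨g, rfl⟩ := isConj_iff.1 h
  obtain ⟨h1, h2⟩ := orderTwo ha
  refine orderTwo_of (fun e => h1 (conj_eq_one_iff.1 e)) ?_
  rw [show g * a * g⁻¹ * (g * a * g⁻¹) = g * (a * a) * g⁻¹ by group, h2]; group

theorem Setup.card_pairs_z {z t : G} {Q K C : Subgroup G} (S : Setup z Q K C)
    (hC : ∀ g, g ∈ C ↔ g * z = z * g) (hz : orderOf z = 2) (ht : orderOf t = 2)
    (hzt : ¬ IsConj z t)
    (hQz : ∀ x ∈ Q, orderOf x = 2 → IsConj x z)
    (hCz : ∀ x ∈ C, orderOf x = 2 → x ∉ Q → IsConj x t) :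
    (pairsAt z t z).card = 960 := by
  obtain ⟨hz1, hz2⟩ := orderTwo hz
  obtain ⟨e⟩ := S.equivK
  set KI : Finset G := Finset.univ.filter fun k => k ∈ K ∧ k ≠ 1 ∧ k * k = 1 with hKI
  have hKIc : KI.card = 15 := by
    rw [← alt5_invol]
    refine (Finset.card_bij (fun a _ => ((e.symm a : K) : G)) ?_ ?_ ?_).symm
    · intro a ha
      rw [Finset.mem_filter] at ha
      simp only [hKI, Finset.mem_filter, Finset.mem_univ, true_and]
      refine ⟨SetLike.coe_mem _, fun h => ha.2.1 ?_, ?_⟩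
      · have : e.symm a = 1 := Subtype.ext h
        simpa using congrArg e this
      · rw [← Subgroup.coe_mul, ← map_mul, ha.2.2, map_one]; rfl
    · intro a _ b _ h
      exact e.symm.injective (Subtype.ext h)
    · intro k hk
      simp only [hKI, Finset.mem_filter, Finset.mem_univ, true_and] at hk
      refine ⟨e ⟨k, hk.1⟩, Finset.mem_filter.2 ⟨Finset.mem_univ _, fun h => hk.2.1 ?_, ?_⟩, by simp⟩
      · have : (⟨k, hk.1⟩ : K) = 1 := e.injective (h.trans (map_one e).symm)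
        exact congrArg Subtype.val this
      · rw [← map_mul, show (⟨k, hk.1⟩ : K) * ⟨k, hk.1⟩ = 1 from Subtype.ext hk.2.2, map_one]
  set Y : Finset G := Finset.univ.filter fun y => y ∈ C ∧ y ∉ Q ∧ y * y = 1 with hY
  have hKnotQ : ∀ k ∈ KI, k ∈ C ∧ k ∉ Q ∧ k * k = 1 := by
    intro k hk
    simp only [hKI, Finset.mem_filter, Finset.mem_univ, true_and] at hk
    refine ⟨S.K_le hk.1, fun h => hk.2.1 ?_, hk.2.2⟩
    have : k ∈ K ⊓ Q := ⟨hk.1, h⟩
    rwa [S.inf, Subgroup.mem_bot] at this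
  have hYc : Y.card = 120 := by
    have hYeq : Y = KI.biUnion fun k =>
        (S.QF.filter fun q => (q * k) * (q * k) = 1).image (fun q => q * k) := by
      ext y
      simp only [hY, Finset.mem_filter, Finset.mem_univ, true_and, Finset.mem_biUnion,
        Finset.mem_image, S.mem_QF]
      constructor
      · rintro ⟨hy, hyQ, hy2⟩
        obtain ⟨q, hq, k, hk, rfl⟩ := S.decomp y hy
        have hk2 : k * k ∈ K ⊓ Q := by
          refine ⟨K.mul_mem hk hk, ?_⟩
          have hc := S.conj_mem k (S.K_le hk) q hq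
          have : k * k = (k * q * k⁻¹)⁻¹ * q⁻¹ := by
            have h2 : q * (k * q * k⁻¹) * (k * k) = 1 := by rw [← hy2]; group
            rw [eq_inv_of_mul_eq_one_right h2, mul_inv_rev]
          rw [this]
          exact Q.mul_mem (Q.inv_mem hc) (Q.inv_mem hq)
        rw [S.inf, Subgroup.mem_bot] at hk2
        refine ⟨k, ?_, q, ⟨hq, hy2⟩, rfl⟩
        simp only [hKI, Finset.mem_filter, Finset.mem_univ, true_and]
        exact ⟨hk, fun h => hyQ (by rw [h, mul_one]; exact hq), hk2⟩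
      · rintro ⟨k, hk, q, ⟨hq, h2⟩, rfl⟩
        obtain ⟨hkC, hkQ, -⟩ := hKnotQ k hk
        exact ⟨C.mul_mem (S.Q_le hq) hkC, fun h => hkQ (by
          have := Q.mul_mem (Q.inv_mem hq) h
          rwa [inv_mul_cancel_left] at this), h2⟩
    rw [hYeq, Finset.card_biUnion, Finset.sum_const_nat (m := 8), hKIc]
    · intro k hk
      obtain ⟨hkC, hkQ, hk2⟩ := hKnotQ k hk
      rw [Finset.card_image_of_injective _ (mul_left_injective k)]
      convert (S.local_count hkC hk2 hkQ).2.1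
    · intro k hk k' hk' hne
      simp only [Function.onFun, Finset.disjoint_left, Finset.mem_image, Finset.mem_filter, S.mem_QF]
      rintro a ⟨q, ⟨hq, -⟩, rfl⟩ ⟨q', ⟨hq', -⟩, he⟩
      simp only [Finset.mem_coe, hKI, Finset.mem_filter, Finset.mem_univ, true_and] at hk hk'
      apply hne
      have hmem : k' * k⁻¹ ∈ K ⊓ Q := by
        refine ⟨K.mul_mem hk'.1 (K.inv_mem hk.1), ?_⟩
        rw [show k' * k⁻¹ = q'⁻¹ * q by
          rw [eq_inv_mul_iff_mul_eq, ← mul_assoc, he, mul_inv_cancel_right]]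
        exact Q.mul_mem (Q.inv_mem hq') hq
      rw [S.inf, Subgroup.mem_bot, mul_inv_eq_one] at hmem
      exact hmem.symm
  have hpairs : pairsAt z t z =
      Y.biUnion fun y => (S.X.filter fun x => z ∈ Subgroup.zpowers (x * y)).image fun x => (x, y) := by
    ext ⟨x, y⟩
    simp only [pairsAt, Finset.mem_filter, Finset.mem_univ, true_and, Finset.mem_biUnion,
      Finset.mem_image, Prod.mk.injEq]
    constructor
    · rintro ⟨h1, h2, h3⟩
      obtain ⟨hx1, hx2⟩ := orderTwo (order_of_conj hz h1)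
      obtain ⟨hy1, hy2⟩ := orderTwo (order_of_conj ht h2)
      obtain ⟨hxC, hyC⟩ := mem_cent_of_zpowers hx2 hy2 hz2 h3
      rw [← hC] at hxC hyC
      have hxQ : x ∈ Q := by
        by_contra h
        exact hzt (h1.trans (hCz x hxC (order_of_conj hz h1) h))
      have hyQ : y ∉ Q := fun h => hzt ((hQz y h (order_of_conj ht h2)).symm.trans h2.symm)
      have hxz : x ≠ z := by
        rintro rfl
        obtain ⟨k, hk⟩ := Subgroup.mem_zpowers_iff.1 h3
        have hsq : (x * y) ^ 2 = 1 := by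
          rw [pow_two, show x * y * (x * y) = x * (y * x) * y by group, (hC y).1 hyC,
            show x * (x * y) * y = (x * x) * (y * y) by group, hx2, hy2, one_mul]
        rcases Int.even_or_odd k with ⟨m, rfl⟩ | ⟨m, rfl⟩
        · rw [← two_mul, zpow_mul, zpow_ofNat, hsq, one_zpow] at hk
          exact hx1 hk.symm
        · rw [zpow_add, zpow_mul, zpow_ofNat, hsq, one_zpow, one_mul, zpow_one] at hk
          exact hy1 (mul_eq_left.1 hk)
      exact ⟨y, Finset.mem_filter.2 ⟨Finset.mem_univ _, hyC, hyQ, hy2⟩, x,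
        ⟨S.mem_X.2 ⟨hxQ, hx2, hx1, hxz⟩, h3⟩, rfl, rfl⟩
    · rintro ⟨y, hy, x, ⟨hx, h3⟩, rfl, rfl⟩
      obtain ⟨-, hyC, hyQ, hy2⟩ := Finset.mem_filter.1 hy
      obtain ⟨hxQ, hx2, hx1, -⟩ := S.mem_X.1 hx
      exact ⟨(hQz x hxQ (orderTwo_of hx1 hx2)).symm,
        (hCz y hyC (orderTwo_of (fun h => hyQ (h ▸ Q.one_mem)) hy2) hyQ).symm, h3⟩
  rw [hpairs, Finset.card_biUnion, Finset.sum_const_nat (m := 8), hYc]
  · intro y hy
    obtain ⟨-, hyC, hyQ, hy2⟩ := Finset.mem_filter.1 hy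
    rw [Finset.card_image_of_injective _ (fun a b h => congrArg Prod.fst h)]
    convert (S.local_count hyC hy2 hyQ).1
  · intro y _ y' _ hne
    simp only [Function.onFun, Finset.disjoint_left, Finset.mem_image]
    rintro a ⟨x, -, rfl⟩ ⟨x', -, he⟩
    exact hne (congrArg Prod.snd he).symm

set_option maxRecDepth 4000 in
theorem card_pairs_t {z t : G} {V B C : Subgroup G} (hC : ∀ g, g ∈ C ↔ g * t = t * g)
    (hz : orderOf z = 2) (ht : orderOf t = 2) (hzt : ¬ IsConj z t)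
    (hVC : V ≤ C) (hBC : B ≤ C) (hcomm : ∀ a ∈ V, ∀ b ∈ B, a * b = b * a)
    (hinf : V ⊓ B = ⊥) (hsup : V ⊔ B = C) (hV2 : ∀ v ∈ V, v * v = 1) (htV : t ∈ V)
    (e : B ≃* alternatingGroup (Fin 5))
    (hBz : ∀ x ∈ B, orderOf x = 2 → IsConj x z)
    (hCt : ∀ x ∈ C, orderOf x = 2 → x ∉ B → IsConj x t) :
    (pairsAt z t t).card = 195 := by
  obtain ⟨ht1, ht2⟩ := orderTwo ht
  have hdec : ∀ g ∈ C, ∃ v ∈ V, ∃ b ∈ B, g = v * b := by
    intro g hg
    let H : Subgroup G :=
    { carrier := {g | ∃ v ∈ V, ∃ b ∈ B, g = v * b}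
      one_mem' := ⟨1, V.one_mem, 1, B.one_mem, (one_mul 1).symm⟩
      mul_mem' := by
        rintro _ _ ⟨v, hv, b, hb, rfl⟩ ⟨w, hw, c, hc, rfl⟩
        refine ⟨v * w, V.mul_mem hv hw, b * c, B.mul_mem hb hc, ?_⟩
        rw [mul_assoc v b, ← mul_assoc b w, ← hcomm w hw b hb]; group
      inv_mem' := by
        rintro _ ⟨v, hv, b, hb, rfl⟩
        exact ⟨v⁻¹, V.inv_mem hv, b⁻¹, B.inv_mem hb, by
          rw [mul_inv_rev, hcomm _ (V.inv_mem hv) _ (B.inv_mem hb)]⟩ }
    have : V ⊔ B ≤ H := sup_le (fun v hv => ⟨v, hv, 1, B.one_mem, (mul_one v).symm⟩)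
      (fun b hb => ⟨1, V.one_mem, b, hb, (one_mul b).symm⟩)
    exact this (hsup ▸ hg)
  have hVB : ∀ {a : G}, a ∈ V → a ∈ B → a = 1 := fun {a} h1 h2 => by
    have : a ∈ V ⊓ B := ⟨h1, h2⟩
    rwa [hinf, Subgroup.mem_bot] at this
  rw [← alt5_pairs]
  refine (Finset.card_bij (fun p _ => (((e.symm p.1 : B) : G), t * ((e.symm p.2 : B) : G))) ?_ ?_ ?_).symm
  · intro p hp
    obtain ⟨-, hb1, hb2, hc2, hodd⟩ := Finset.mem_filter.1 hp
    set b : G := ((e.symm p.1 : B) : G) with hbdef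
    set c : G := ((e.symm p.2 : B) : G) with hcdef
    have hbB : b ∈ B := SetLike.coe_mem _
    have hcB : c ∈ B := SetLike.coe_mem _
    have eb : b ≠ 1 := fun h => hb1 (by
      have : e.symm p.1 = 1 := Subtype.ext h
      simpa using congrArg e this)
    have eb2 : b * b = 1 := by rw [hbdef, ← Subgroup.coe_mul, ← map_mul, hb2, map_one]; rfl
    have ec2 : c * c = 1 := by rw [hcdef, ← Subgroup.coe_mul, ← map_mul, hc2, map_one]; rfl
    have ebc : (b * c) ^ 15 = 1 := by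
      rw [hbdef, hcdef, ← Subgroup.coe_mul, ← map_mul, ← SubgroupClass.coe_pow, ← map_pow, hodd,
        map_one]; rfl
    have hy2 : (t * c) * (t * c) = 1 := by
      rw [show t * c * (t * c) = t * (c * t) * c by group, ← hcomm t htV c hcB,
        show t * (t * c) * c = (t * t) * (c * c) by group, ht2, ec2, one_mul]
    have hyB : t * c ∉ B := fun h => ht1 (hVB htV (by
      have := B.mul_mem h (B.inv_mem hcB)
      rwa [mul_inv_cancel_right] at this))
    refine Finset.mem_filter.2 ⟨Finset.mem_univ _, (hBz b hbB (orderTwo_of eb eb2)).symm,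
      (hCt _ (C.mul_mem (hVC htV) (hBC hcB))
        (orderTwo_of (fun h => hyB (h ▸ B.one_mem)) hy2) hyB).symm, Subgroup.mem_zpowers_iff.2 ⟨15, ?_⟩⟩
    show (b * (t * c)) ^ (15 : ℤ) = t
    rw [zpow_ofNat, ← mul_assoc, ← hcomm t htV b hbB, mul_assoc,
      (show Commute t (b * c) from hcomm t htV _ (B.mul_mem hbB hcB)).mul_pow, ebc, mul_one,
      show 15 = 2 * 7 + 1 from rfl, pow_succ, pow_mul, pow_two, ht2, one_pow, one_mul]
  · intro a _ b _ h
    simp only [Prod.mk.injEq, mul_right_inj] at h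
    exact Prod.ext (e.symm.injective (Subtype.ext h.1)) (e.symm.injective (Subtype.ext h.2))
  · rintro ⟨x, y⟩ hp
    obtain ⟨-, h1, h2, h3⟩ := Finset.mem_filter.1 hp
    simp only at h1 h2 h3
    obtain ⟨hx1, hx2⟩ := orderTwo (order_of_conj hz h1)
    obtain ⟨hy1, hy2⟩ := orderTwo (order_of_conj ht h2)
    obtain ⟨hxC, hyC⟩ := mem_cent_of_zpowers hx2 hy2 ht2 h3
    rw [← hC] at hxC hyC
    have hxB : x ∈ B := by
      by_contra h
      exact hzt (h1.trans (hCt x hxC (order_of_conj hz h1) h))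
    obtain ⟨v, hv, c, hc, rfl⟩ := hdec y hyC
    have hv1 : v ≠ 1 := by
      rintro rfl
      rw [one_mul] at h2
      exact hzt ((hBz c hc (order_of_conj ht h2)).symm.trans h2.symm)
    have hc2 : c * c = 1 := by
      rw [show v * c * (v * c) = v * (c * v) * c by group, ← hcomm v hv c hc,
        show v * (v * c) * c = (v * v) * (c * c) by group, hV2 v hv, one_mul] at hy2
      exact hy2
    obtain ⟨k, hk⟩ := Subgroup.mem_zpowers_iff.1 h3
    have hcm : Commute v (x * c) := hcomm v hv _ (B.mul_mem hxB hc)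
    rw [← mul_assoc, ← hcomm v hv x hxB, mul_assoc, hcm.mul_zpow] at hk
    have hk1 : (x * c) ^ k = 1 := hVB (by
        rw [show (x * c) ^ k = (v ^ k)⁻¹ * t by rw [← hk]; group]
        exact V.mul_mem (V.inv_mem (V.zpow_mem hv k)) htV) (B.zpow_mem (B.mul_mem hxB hc) k)
    rw [hk1, mul_one] at hk
    have hv2 : v ^ 2 = 1 := by rw [pow_two]; exact hV2 v hv
    rcases Int.even_or_odd k with ⟨m, rfl⟩ | ⟨m, rfl⟩
    · rw [← two_mul, zpow_mul, zpow_ofNat, hv2, one_zpow] at hk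
      exact absurd hk.symm ht1
    rw [zpow_add, zpow_mul, zpow_ofNat, hv2, one_zpow, one_mul, zpow_one] at hk
    subst hk
    have hodd : (e ⟨x * c, B.mul_mem hxB hc⟩) ^ 15 = 1 := by
      rcases alt5_odd_iff (e ⟨x * c, B.mul_mem hxB hc⟩) with h | h
      · exact h
      · have hk' : (e ⟨x * c, B.mul_mem hxB hc⟩) ^ (2 * m + 1) = 1 := by
          rw [← map_zpow, show (⟨x * c, B.mul_mem hxB hc⟩ : B) ^ (2 * m + 1) = 1 from
            Subtype.ext hk1, map_one]
        rw [zpow_add, zpow_mul, zpow_ofNat, h, one_zpow, one_mul, zpow_one] at hk'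
        rw [hk', one_pow]
    refine ⟨(e ⟨x, hxB⟩, e ⟨c, hc⟩), Finset.mem_filter.2 ⟨Finset.mem_univ _, fun h => hx1 ?_, ?_, ?_, ?_⟩,
      by simp⟩
    · have : (⟨x, hxB⟩ : B) = 1 := e.injective (h.trans (map_one e).symm)
      exact congrArg Subtype.val this
    · rw [← map_mul, show (⟨x, hxB⟩ : B) * ⟨x, hxB⟩ = 1 from Subtype.ext hx2, map_one]
    · rw [← map_mul, show (⟨c, hc⟩ : B) * ⟨c, hc⟩ = 1 from Subtype.ext hc2, map_one]
    · rw [← map_mul]; exact hodd

end CfsgLib.J2Order
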