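import Cfsg.Agent.Lib.J2Order.Alt5
import Mathlib.GroupTheory.Sylow
import Mathlib.GroupTheory.Index
import Mathlib.GroupTheory.Perm.Cycle.Type
import Mathlib.Tactic.Group

/-!
An extraspecial group of order 32 with a complement isomorphic to the alternating group of
degree five acting on it: the involutions of the product.
-/

set_option autoImplicit false

open scoped Classical

namespace CfsgLib.J2Order

variable {G : Type*} [Group G] [Finite G]

/-- `C` centralises the involution `z` and normalises the extraspecial group `Q` of order 32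
with centre `⟨z⟩`. -/
structure Base (z : G) (Q C : Subgroup G) where
  z_mem : z ∈ Q
  z_sq : z * z = 1
  z_ne : z ≠ 1
  z_cen : ∀ c ∈ C, c * z = z * c
  Q_le : Q ≤ C
  conj_mem : ∀ c ∈ C, ∀ q ∈ Q, c * q * c⁻¹ ∈ Q
  cardQ : Nat.card Q = 32
  comm : ∀ a ∈ Q, ∀ b ∈ Q, a * b = b * a ∨ a * b = z * (b * a)
  sq : ∀ a ∈ Q, a * a = 1 ∨ a * a = z
  cen : ∀ a ∈ Q, (∀ b ∈ Q, a * b = b * a) → a = 1 ∨ a = z

/-- The data: `C = Q K` with `Q` extraspecial of order 32 and centre `⟨z⟩`. -/
structure Setup (z : G) (Q K C : Subgroup G) extends Base z Q C where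
  K_le : K ≤ C
  equivK : Nonempty (↥K ≃* alternatingGroup (Fin 5))
  inf : K ⊓ Q = ⊥
  faith : ∀ k ∈ K, (∀ q ∈ Q, k * q = q * k) → k = 1
  decomp : ∀ c ∈ C, ∃ q ∈ Q, ∃ k ∈ K, c = q * k

namespace Base

variable {z : G} {Q C : Subgroup G} (S : Base z Q C)
include S

theorem mul_z {a : G} (ha : a ∈ Q) : a * z = z * a := S.z_cen a (S.Q_le ha)

/-- anticommuting -/
theorem anti_symm {a b : G} (hb : b ∈ Q) (h : a * b = z * (b * a)) (ha : a ∈ Q) :
    b * a = z * (a * b) := by
  rw [h, ← mul_assoc z z, S.z_sq, one_mul]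

theorem comm_mul_anti {a b c : G} (ha : a ∈ Q) (hb : b ∈ Q) (h1 : a * b = z * (b * a))
    (h2 : a * c = z * (c * a)) : a * (b * c) = b * c * a := by
  rw [← mul_assoc, h1, mul_assoc z, mul_assoc b, h2, ← mul_assoc b z, S.mul_z hb, mul_assoc z b,
    ← mul_assoc z z, S.z_sq, one_mul, mul_assoc]

theorem anti_mul_comm {a b c : G} (h1 : a * b = z * (b * a)) (h2 : a * c = c * a) :
    a * (b * c) = z * (b * c * a) := by
  rw [← mul_assoc, h1, mul_assoc z, mul_assoc b, h2, mul_assoc b]

theorem comm_mul_anti' {a b c : G} (hb : b ∈ Q) (h1 : a * b = b * a) (h2 : a * c = z * (c * a)) :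
    a * (b * c) = z * (b * c * a) := by
  rw [← mul_assoc, h1, mul_assoc b, h2, ← mul_assoc b z, S.mul_z hb, mul_assoc z, mul_assoc b]

theorem anti_ne {a b : G} (h : a * b = z * (b * a)) : a * b ≠ b * a := fun e => by
  rw [e] at h
  exact S.z_ne (mul_right_cancel (h.symm.trans (one_mul _).symm))

/-- The involutions of `Q` other than `z`. -/
noncomputable def X (_ : Base z Q C) : Finset G :=
  (Set.toFinite {x : G | x ∈ Q ∧ x * x = 1 ∧ x ≠ 1 ∧ x ≠ z}).toFinset

theorem mem_X {x : G} : x ∈ S.X ↔ x ∈ Q ∧ x * x = 1 ∧ x ≠ 1 ∧ x ≠ z := by simp [X]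

theorem xz_mem {x : G} (hx : x ∈ S.X) : x * z ∈ S.X := by
  rw [S.mem_X] at hx ⊢
  obtain ⟨h1, h2, h3, h4⟩ := hx
  refine ⟨Q.mul_mem h1 S.z_mem, ?_, fun h => h4 ?_, fun h => h3 ?_⟩
  · rw [mul_assoc, ← mul_assoc z x, ← S.mul_z h1, mul_assoc x z, S.z_sq, mul_one, h2]
  · have := congrArg (· * z) h
    simpa [mul_assoc, S.z_sq] using this
  · exact mul_eq_right.1 h

theorem conj_X {c x : G} (hc : c ∈ C) (hx : x ∈ S.X) : c * x * c⁻¹ ∈ S.X := by
  rw [S.mem_X] at hx ⊢
  obtain ⟨h1, h2, h3, h4⟩ := hx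
  refine ⟨S.conj_mem c hc x h1, ?_, fun h => h3 ?_, fun h => h4 ?_⟩
  · rw [show c * x * c⁻¹ * (c * x * c⁻¹) = c * (x * x) * c⁻¹ by group, h2]; group
  · rw [show x = c⁻¹ * (c * x * c⁻¹) * c by group, h]; group
  · rw [show x = c⁻¹ * (c * x * c⁻¹) * c by group, h, mul_assoc, ← S.z_cen c hc]; group

/-- Counting with signs: the number of involutions is 10 or 18. -/
theorem card_X_cases : S.X.card = 10 ∨ S.X.card = 18 := by
  have := Fintype.ofFinite G
  set A : Finset G := (Set.toFinite (Q : Set G)).toFinset with hA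
  have memA : ∀ {g : G}, g ∈ A ↔ g ∈ Q := by simp [hA]
  have hAc : A.card = 32 := by
    rw [hA, ← S.cardQ, ← Set.ncard_eq_toFinset_card]
    rfl
  let f : G → ℤ := fun g => if g * g = 1 then 1 else -1
  let χ : G → G → ℤ := fun a b => if a * b = b * a then 1 else -1
  have hf : ∀ a ∈ A, ∀ b ∈ A, f (a * b) = f a * f b * χ a b := by
    intro a ha b hb
    rw [memA] at ha hb
    have e : a * b * (a * b) = a * (b * a) * b := by group
    have zc := S.z_ne
    rcases S.comm a ha b hb with h | h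
    · have e2 : a * b * (a * b) = a * a * (b * b) := by rw [e, ← h]; group
      simp only [f, χ, e2, if_pos h]
      rcases S.sq a ha with h1 | h1 <;> rcases S.sq b hb with h2 | h2 <;>
        simp [h1, h2, zc, S.z_sq]
    · have e2 : a * b * (a * b) = z * (a * a * (b * b)) := by
        have hba := S.anti_symm hb h ha
        rw [e, hba, ← mul_assoc a z, S.mul_z ha]
        group
      simp only [f, χ, e2, if_neg (S.anti_ne h)]
      rcases S.sq a ha with h1 | h1 <;> rcases S.sq b hb with h2 | h2 <;>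
        simp [h1, h2, zc, S.z_sq]
  have hff : ∀ a, f a * f a = 1 := fun a => by simp only [f]; split <;> norm_num
  set T := ∑ a ∈ A, f a with hT
  have hT2 : T * T = 64 := by
    have h1 : T * T = ∑ a ∈ A, ∑ d ∈ A, f a * f (a * d) := by
      rw [hT, Finset.sum_mul]
      refine Finset.sum_congr rfl fun a ha => ?_
      rw [Finset.mul_sum]
      refine (Finset.sum_bij (fun d _ => a * d) (fun d hd => ?_) (fun _ _ _ _ h => mul_left_cancel h)
        (fun b hb => ⟨a⁻¹ * b, ?_, by group⟩) fun _ _ => rfl).symm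
      · rw [memA] at *; exact Q.mul_mem ha hd
      · rw [memA] at *; exact Q.mul_mem (Q.inv_mem ha) hb
    rw [h1, Finset.sum_comm]
    have h2 : ∀ d ∈ A, ∑ a ∈ A, f a * f (a * d) = if d = 1 ∨ d = z then 32 else 0 := by
      intro d hd
      have h3 : ∑ a ∈ A, f a * f (a * d) = f d * ∑ a ∈ A, χ a d := by
        rw [Finset.mul_sum]
        refine Finset.sum_congr rfl fun a ha => ?_
        rw [hf a ha d hd, ← mul_assoc, ← mul_assoc, hff, one_mul]
      rw [h3]
      split
      case isTrue h =>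
        have h4 : ∀ a ∈ A, χ a d = 1 := by
          intro a ha
          simp only [χ]
          rw [if_pos]
          rcases h with rfl | rfl
          · simp
          · exact S.mul_z (memA.1 ha)
        rw [Finset.sum_congr rfl h4]
        rcases h with rfl | rfl <;> simp [f, hAc, S.z_sq]
      case isFalse h =>
        obtain ⟨a0, ha0, hne⟩ : ∃ a0 ∈ Q, d * a0 ≠ a0 * d := by
          by_contra hc
          push Not at hc
          exact h (S.cen d (memA.1 hd) hc)
        have hadj : d * a0 = z * (a0 * d) := (S.comm d (memA.1 hd) a0 ha0).resolve_left hne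
        have hneg : ∀ a ∈ A, χ (a * a0) d = - χ a d := by
          intro a ha
          rw [memA] at ha
          simp only [χ]
          rcases S.comm d (memA.1 hd) a ha with h5 | h5
          · have h6 := S.comm_mul_anti' ha h5 hadj
            rw [if_neg (fun e => S.anti_ne h6 e.symm), if_pos h5.symm]
          · have h6 := S.comm_mul_anti (memA.1 hd) ha h5 hadj
            rw [if_pos h6.symm, if_neg (fun e => S.anti_ne h5 e.symm)]
            norm_num
        have hs : ∑ a ∈ A, χ a d = - ∑ a ∈ A, χ a d := by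
          rw [← Finset.sum_neg_distrib]
          refine (Finset.sum_bij (fun a _ => a * a0) (fun a ha => ?_)
            (fun _ _ _ _ h => mul_right_cancel h) (fun b hb => ⟨b * a0⁻¹, ?_, by group⟩)
            fun a ha => (hneg a ha).symm).symm
          · rw [memA] at *; exact Q.mul_mem ha ha0
          · rw [memA] at *; exact Q.mul_mem hb (Q.inv_mem ha0)
        rw [show ∑ a ∈ A, χ a d = 0 by omega, mul_zero]
    rw [Finset.sum_congr rfl h2, Finset.sum_ite, Finset.sum_const_zero, add_zero, Finset.sum_const,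
      show (A.filter fun d => d = 1 ∨ d = z) = {1, z} by
        ext d
        simp only [Finset.mem_filter, Finset.mem_insert, Finset.mem_singleton, memA]
        exact ⟨fun h => h.2, fun h => ⟨by rcases h with rfl | rfl; exacts [Q.one_mem, S.z_mem], h⟩⟩,
      Finset.card_pair S.z_ne.symm]
    norm_num
  have hsplit : (A.filter fun a => a * a = 1).card + (A.filter fun a => ¬ a * a = 1).card = 32 := by
    rw [Finset.card_filter_add_card_filter_not, hAc]
  have hTv : T = ((A.filter fun a => a * a = 1).card : ℤ) - (A.filter fun a => ¬ a * a = 1).card := by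
    rw [hT, show (∑ a ∈ A, f a) = ∑ a ∈ A, if a * a = 1 then (1 : ℤ) else -1 from rfl, Finset.sum_ite]
    simp [Finset.sum_const, sub_eq_add_neg]
  have hXA : (A.filter fun a => a * a = 1) = insert 1 (insert z S.X) := by
    ext a
    simp only [Finset.mem_filter, Finset.mem_insert, S.mem_X, memA]
    refine ⟨fun h => ?_, ?_⟩
    · by_cases h1 : a = 1
      · exact Or.inl h1
      · by_cases h2 : a = z
        · exact Or.inr (Or.inl h2)
        · exact Or.inr (Or.inr ⟨h.1, h.2, h1, h2⟩)
    · rintro (rfl | rfl | ⟨h1, h2, -⟩)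
      · exact ⟨Q.one_mem, one_mul 1⟩
      · exact ⟨S.z_mem, S.z_sq⟩
      · exact ⟨h1, h2⟩
  have hcard : (A.filter fun a => a * a = 1).card = S.X.card + 2 := by
    rw [hXA, Finset.card_insert_of_notMem (by simp [S.mem_X, S.z_ne.symm]),
      Finset.card_insert_of_notMem (by simp [S.mem_X])]
  have : T = 8 ∨ T = -8 := mul_self_eq_mul_self_iff.1 (hT2.trans (by norm_num : (64 : ℤ) = 8 * 8))
  omega

omit S in
theorem fixed_count {β : Type*} [Finite β] (π : Equiv.Perm β) (h : π ^ 5 = 1) :
    Nat.card β ≡ Nat.card {b : β // π b = b} [MOD 5] := by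
  have := Fintype.ofFinite β
  haveI : Fact (Nat.Prime 5) := ⟨by decide⟩
  have := Equiv.Perm.card_compl_support_modEq (p := 5) (n := 1) (σ := π) (by rwa [pow_one])
  rw [Nat.card_eq_fintype_card, Nat.card_eq_fintype_card, Fintype.card_subtype]
  refine this.symm.trans ?_
  rw [show (π.support)ᶜ = Finset.univ.filter fun b => π b = b by ext b; simp]

theorem five_centralizer {k : G} (hkC : k ∈ C) (h5 : k ^ 5 = 1) (hnc : ∃ q ∈ Q, k * q ≠ q * k) {q : G} (hq : q ∈ Q)
    (hqk : k * q = q * k) : q = 1 ∨ q = z := by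
  let π : Equiv.Perm Q :=
  { toFun := fun a => ⟨k * a * k⁻¹, S.conj_mem k hkC a a.2⟩
    invFun := fun a => ⟨k⁻¹ * a * k, by simpa using S.conj_mem k⁻¹ (C.inv_mem hkC) a a.2⟩
    left_inv := fun a => Subtype.ext (by show k⁻¹ * (k * a * k⁻¹) * k = (a : G); group)
    right_inv := fun a => Subtype.ext (by show k * (k⁻¹ * a * k) * k⁻¹ = (a : G); group) }
  have hπ : ∀ (n : ℕ) (a : Q), (((π ^ n) a : Q) : G) = k ^ n * a * (k ^ n)⁻¹ := by
    intro n
    induction n with
    | zero => intro a; simp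
    | succ n ih =>
      intro a
      rw [pow_succ', Equiv.Perm.mul_apply]
      show k * (((π ^ n) a : Q) : G) * k⁻¹ = _
      rw [ih, pow_succ']
      group
  have hmod := fixed_count π (Equiv.ext fun a => Subtype.ext (by rw [hπ, h5]; simp))
  let F : Subgroup G := Q ⊓ Subgroup.centralizer ({k} : Set G)
  have hF : Nat.card {a : Q // π a = a} = Nat.card F := by
    refine Nat.card_congr ⟨fun a => ⟨a.1.1, a.1.2, Subgroup.mem_centralizer_singleton_iff.2 ?_⟩,
      fun a => ⟨⟨a.1, a.2.1⟩, Subtype.ext ?_⟩, fun _ => rfl, fun _ => rfl⟩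
    · have := congrArg Subtype.val a.2
      exact (mul_inv_eq_iff_eq_mul.1 this).symm
    · exact mul_inv_eq_iff_eq_mul.2 (Subgroup.mem_centralizer_singleton_iff.1 a.2.2).symm
  rw [hF, S.cardQ] at hmod
  obtain ⟨i, hi, hic⟩ := (Nat.dvd_prime_pow Nat.prime_two).1
    (show Nat.card F ∣ 2 ^ 5 by rw [show 2 ^ 5 = Nat.card Q by rw [S.cardQ]; norm_num]; exact Subgroup.card_dvd_of_le inf_le_left)
  have hi5 : i ≠ 5 := by
    rintro rfl
    obtain ⟨a, ha, hne'⟩ := hnc
    apply hne'
    have hFQ : F = Q := Subgroup.eq_of_le_of_card_ge inf_le_left (by rw [S.cardQ, hic]; norm_num)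
    rw [← hFQ] at ha
    exact (Subgroup.mem_centralizer_singleton_iff.1 ha.2).symm
  have hi1 : i = 1 := by
    rw [hic] at hmod
    interval_cases i <;> first | rfl | exact absurd hmod (by decide) | omega
  have hzF : z ∈ F := ⟨S.z_mem, Subgroup.mem_centralizer_singleton_iff.2 (S.z_cen k hkC).symm⟩
  have hqF : q ∈ F := ⟨hq, Subgroup.mem_centralizer_singleton_iff.2 hqk.symm⟩
  by_contra hne
  push Not at hne
  have h3 : ({1, z, q} : Finset G).card = 3 := by
    rw [Finset.card_insert_of_notMem (by simp [S.z_ne.symm, hne.1.symm]),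
      Finset.card_pair hne.2.symm]
  have : ({1, z, q} : Finset G).card ≤ Nat.card F := by
    rw [show Nat.card F = (F : Set G).ncard from (Nat.card_coe_set_eq (F : Set G)), ← Set.ncard_coe_finset]
    refine Set.ncard_le_ncard ?_ (Set.toFinite _)
    intro a ha
    simp only [Finset.coe_insert, Finset.coe_singleton, Set.mem_insert_iff, Set.mem_singleton_iff] at ha
    rcases ha with rfl | rfl | rfl
    exacts [F.one_mem, hzF, hqF]
  rw [h3, hic, hi1] at this
  norm_num at this

theorem card_X_of_five {k : G} (hkC : k ∈ C) (h5 : k ^ 5 = 1) (hnc : ∃ q ∈ Q, k * q ≠ q * k) :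
    S.X.card = 10 := by
  let π : Equiv.Perm S.X :=
  { toFun := fun a => ⟨k * a * k⁻¹, S.conj_X hkC a.2⟩
    invFun := fun a => ⟨k⁻¹ * a * k, by simpa using S.conj_X (C.inv_mem hkC) a.2⟩
    left_inv := fun a => Subtype.ext (by show k⁻¹ * (k * a * k⁻¹) * k = (a : G); group)
    right_inv := fun a => Subtype.ext (by show k * (k⁻¹ * a * k) * k⁻¹ = (a : G); group) }
  have hπ : ∀ (n : ℕ) (a : S.X), (((π ^ n) a : S.X) : G) = k ^ n * a * (k ^ n)⁻¹ := by
    intro n
    induction n with
    | zero => intro a; simp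
    | succ n ih =>
      intro a
      rw [pow_succ', Equiv.Perm.mul_apply]
      show k * (((π ^ n) a : S.X) : G) * k⁻¹ = _
      rw [ih, pow_succ']
      group
  have hmod := fixed_count π (Equiv.ext fun a => Subtype.ext (by rw [hπ, h5]; simp))
  haveI : IsEmpty {a : S.X // π a = a} := ⟨fun a => by
    obtain ⟨hq, -, ha1, haz⟩ := S.mem_X.1 a.1.2
    rcases S.five_centralizer hkC h5 hnc hq (mul_inv_eq_iff_eq_mul.1 (congrArg Subtype.val a.2)) with h | h
    exacts [ha1 h, haz h]⟩
  rw [show Nat.card {a : S.X // π a = a} = 0 from Nat.card_of_isEmpty, Nat.card_eq_fintype_card,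
    Fintype.card_coe] at hmod
  rcases S.card_X_cases with h | h
  · exact h
  · rw [h] at hmod; exact absurd hmod (by decide)

end Base

namespace Setup

variable {z : G} {Q K C : Subgroup G} (S : Setup z Q K C)
include S

theorem exists_five : ∃ k ∈ K, k ^ 5 = 1 ∧ k ≠ 1 := by
  obtain ⟨e⟩ := S.equivK
  obtain ⟨a, ha, ha1⟩ := alt5_five
  refine ⟨(e.symm a : G), SetLike.coe_mem _, ?_, fun h => ha1 ?_⟩
  · rw [← SubgroupClass.coe_pow, ← map_pow, ha, map_one]; rfl
  · have : e.symm a = 1 := Subtype.ext h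
    simpa using congrArg e this

theorem not_centralizes {k : G} (hk : k ∈ K) (h1 : k ≠ 1) : ∃ q ∈ Q, k * q ≠ q * k := by
  by_contra h
  push Not at h
  exact h1 (S.faith k hk h)

theorem five_centralizer {k : G} (hk : k ∈ K) (h5 : k ^ 5 = 1) (h1 : k ≠ 1) {q : G} (hq : q ∈ Q)
    (hqk : k * q = q * k) : q = 1 ∨ q = z :=
  S.toBase.five_centralizer (S.K_le hk) h5 (S.not_centralizes hk h1) hq hqk

theorem card_X : S.toBase.X.card = 10 := by
  obtain ⟨k, hk, h5, h1⟩ := S.exists_five
  exact S.toBase.card_X_of_five (S.K_le hk) h5 (S.not_centralizes hk h1)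

end Setup

end CfsgLib.J2Order
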