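import Cfsg.Agent.Lib.J2Order.Pairs

/-!
The contribution of each involution outside `Q`.
-/

set_option autoImplicit false

open scoped Classical

namespace CfsgLib.J2Order.Setup

variable {G : Type*} [Group G] [Finite G] {z : G} {Q K C : Subgroup G} (S : Setup z Q K C)
include S

/-- `Q` as a finite set. -/
noncomputable def QF (_ : Setup z Q K C) : Finset G := (Set.toFinite (Q : Set G)).toFinset

theorem mem_QF {q : G} : q ∈ S.QF ↔ q ∈ Q := by simp [QF]

theorem card_QF : S.QF.card = 32 := by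
  rw [QF, ← S.cardQ, ← Set.ncard_eq_toFinset_card]
  rfl

theorem anti_iff {a b : G} (ha : a ∈ Q) (hb : b ∈ Q) :
    a * b = z * (b * a) ↔ ¬ a * b = b * a :=
  ⟨S.anti_ne, fun h => (S.comm a ha b hb).resolve_left h⟩

/-- multiplying changes the two commutation signs independently -/
theorem comm_mul_iff {a b c : G} (ha : a ∈ Q) (hb : b ∈ Q) (hc : c ∈ Q) :
    a * (b * c) = b * c * a ↔ (a * b = b * a ↔ a * c = c * a) := by
  rcases S.comm a ha b hb with h1 | h1 <;> rcases S.comm a ha c hc with h2 | h2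
  · exact iff_of_true ((Commute.mul_right (show Commute a b from h1) h2).eq) (iff_of_true h1 h2)
  · exact iff_of_false (S.anti_ne (S.comm_mul_anti' hb h1 h2))
      fun h => S.anti_ne h2 (h.1 h1)
  · exact iff_of_false (S.anti_ne (S.anti_mul_comm h1 h2)) fun h => S.anti_ne h1 (h.2 h2)
  · exact iff_of_true (S.comm_mul_anti ha hb h1 h2) (iff_of_false (S.anti_ne h1) (S.anti_ne h2))

theorem swap_comm {a b : G} : (a * b = b * a) ↔ (b * a = a * b) := ⟨Eq.symm, Eq.symm⟩

theorem conj_comm_iff {c a b : G} :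
    (c * a * c⁻¹) * (c * b * c⁻¹) = (c * b * c⁻¹) * (c * a * c⁻¹) ↔ a * b = b * a :=
  Commute.conj_iff c

theorem local_count {y : G} (hy : y ∈ C) (hy2 : y * y = 1) (hyQ : y ∉ Q) :
    (S.X.filter fun x => z ∈ Subgroup.zpowers (x * y)).card = 8 ∧
    (S.QF.filter fun q => (q * y) * (q * y) = 1).card = 8 ∧
    ∀ q ∈ Q, y * q * y⁻¹ = q → q * q = 1 := by
  obtain ⟨⟨p0, hp0⟩, hfix, huniq⟩ := S.ρ_invol (y := ⟨y, hy⟩) hy2 hyQ
  obtain ⟨x0, hx0, rfl⟩ := Finset.mem_image.1 hp0
  have hyinv : y⁻¹ = y := inv_eq_of_mul_eq_one_right hy2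
  have hzy : y * z = z * y := S.z_cen y hy
  have hmoved : ∀ {x : G}, x ∈ S.X → x ∉ S.pr x0 → S.pr (y * x * y⁻¹) ≠ S.pr x := by
    intro x hx hx' h
    apply hx'
    have := huniq ⟨S.pr x, Finset.mem_image_of_mem _ hx⟩ (Subtype.ext (by rw [S.ρ_pr _ hx]; exact h))
    have h2 : S.pr x = S.pr x0 := congrArg Subtype.val this
    exact h2 ▸ Finset.mem_insert_self _ _
  have hfix' : S.pr (y * x0 * y⁻¹) = S.pr x0 := by
    have := congrArg Subtype.val hfix
    rwa [S.ρ_pr _ hx0] at this
  -- two swapped pairs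
  obtain ⟨x1, hx1, hx10⟩ : ∃ x ∈ S.X, x ∉ S.pr x0 := by
    by_contra hc
    push Not at hc
    have := Finset.card_le_card hc
    rw [S.card_X] at this
    have : (S.pr x0).card ≤ 2 := Finset.card_insert_le _ _
    omega
  set x1' := y * x1 * y⁻¹ with hx1'def
  have hx1' : x1' ∈ S.X := S.conj_X hy hx1
  obtain ⟨x3, hx3, hx3'⟩ : ∃ x ∈ S.X, x ∉ S.pr x0 ∪ S.pr x1 ∪ S.pr x1' := by
    by_contra hc
    push Not at hc
    have := Finset.card_le_card hc
    rw [S.card_X] at this
    have h1 := Finset.card_union_le (S.pr x0 ∪ S.pr x1) (S.pr x1')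
    have h2 := Finset.card_union_le (S.pr x0) (S.pr x1)
    have h3 : (S.pr x0).card ≤ 2 := Finset.card_insert_le _ _
    have h4 : (S.pr x1).card ≤ 2 := Finset.card_insert_le _ _
    have h5 : (S.pr x1').card ≤ 2 := Finset.card_insert_le _ _
    omega
  simp only [Finset.mem_union, not_or] at hx3'
  obtain ⟨⟨h30, h31⟩, h31'⟩ := hx3'
  set x3' := y * x3 * y⁻¹ with hx3'def
  have hx3'' : x3' ∈ S.X := S.conj_X hy hx3
  have ne_of : ∀ {a b : G}, a ∉ S.pr b → S.pr a ≠ S.pr b := fun h e =>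
    h (e ▸ Finset.mem_insert_self _ _)
  have hyy : ∀ a : G, y * (y * a * y⁻¹) * y⁻¹ = a := fun a => by
    rw [show y * (y * a * y⁻¹) * y⁻¹ = (y * y) * a * (y * y)⁻¹ by group, hy2]; group
  have pr_conj : ∀ {a b : G}, S.pr a = S.pr b → S.pr (y * a * y⁻¹) = S.pr (y * b * y⁻¹) := by
    intro a b h
    rw [← S.image_pr hy, ← S.image_pr hy, h]
  have q1 : x1 ∈ Q := (S.mem_X.1 hx1).1
  have q1' : x1' ∈ Q := (S.mem_X.1 hx1').1
  have q3 : x3 ∈ Q := (S.mem_X.1 hx3).1
  have q3' : x3' ∈ Q := (S.mem_X.1 hx3'').1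
  have q0 : x0 ∈ Q := (S.mem_X.1 hx0).1
  have e01 : S.pr x1 ≠ S.pr x0 := ne_of hx10
  have e01' : S.pr x1' ≠ S.pr x0 := fun h => e01 (by
    have := pr_conj h; rw [hx1'def, hyy, hfix'] at this; exact this)
  have e03' : S.pr x3' ≠ S.pr x0 := fun h => ne_of h30 (by
    have := pr_conj h; rw [hx3'def, hyy, hfix'] at this; exact this)
  have e11' : S.pr x1' ≠ S.pr x1 := hmoved hx1 hx10
  have e33' : S.pr x3' ≠ S.pr x3 := hmoved hx3 h30
  have e13' : S.pr x3' ≠ S.pr x1 := fun h => ne_of h31' (by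
    have := pr_conj h; rwa [hx3'def, hyy] at this)
  have e1'3' : S.pr x3' ≠ S.pr x1' := fun h => ne_of h31 (by
    have := pr_conj h; rwa [hx3'def, hx1'def, hyy, hyy] at this)
  have a11 := S.anti_ne (S.anti_of_ne hx1' hx1 e11')
  have a33 := S.anti_ne (S.anti_of_ne hx3'' hx3 e33')
  have a13 := S.anti_ne (S.anti_of_ne hx3 hx1 (ne_of h31))
  have a13' := S.anti_ne (S.anti_of_ne hx3 hx1' (ne_of h31'))
  have a31 := S.anti_ne (S.anti_of_ne hx3'' hx1 e13')
  have a31' := S.anti_ne (S.anti_of_ne hx3'' hx1' e1'3')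
  have a01 := S.anti_ne (S.anti_of_ne hx1 hx0 e01)
  have a01' := S.anti_ne (S.anti_of_ne hx1' hx0 e01')
  have a03 := S.anti_ne (S.anti_of_ne hx3 hx0 (ne_of h30))
  have a03' := S.anti_ne (S.anti_of_ne hx3'' hx0 e03')
  set u := x1 * x1' with hu
  set v := x3 * x3' with hv
  have uQ : u ∈ Q := Q.mul_mem q1 q1'
  have vQ : v ∈ Q := Q.mul_mem q3 q3'
  have usq : u * u = z := by
    rw [hu, show x1 * x1' * (x1 * x1') = x1 * (x1' * x1) * x1' by group,
      (S.anti_iff q1' q1).2 a11, ← mul_assoc x1, S.mul_z q1,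
      show z * x1 * (x1 * x1') * x1' = z * (x1 * x1) * (x1' * x1') by group,
      (S.mem_X.1 hx1).2.1, (S.mem_X.1 hx1').2.1, mul_one, mul_one]
  have vsq : v * v = z := by
    rw [hv, show x3 * x3' * (x3 * x3') = x3 * (x3' * x3) * x3' by group,
      (S.anti_iff q3' q3).2 a33, ← mul_assoc x3, S.mul_z q3,
      show z * x3 * (x3 * x3') * x3' = z * (x3 * x3) * (x3' * x3') by group,
      (S.mem_X.1 hx3).2.1, (S.mem_X.1 hx3'').2.1, mul_one, mul_one]
  have yu : y * u * y⁻¹ = u * z := by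
    rw [hu, show y * (x1 * x1') * y⁻¹ = (y * x1 * y⁻¹) * (y * x1' * y⁻¹) by group, hx1'def, hyy,
      ← hx1'def, (S.anti_iff q1' q1).2 a11, ← S.mul_z (Q.mul_mem q1 q1')]
  have yv : y * v * y⁻¹ = v * z := by
    rw [hv, show y * (x3 * x3') * y⁻¹ = (y * x3 * y⁻¹) * (y * x3' * y⁻¹) by group, hx3'def, hyy,
      ← hx3'def, (S.anti_iff q3' q3).2 a33, ← S.mul_z (Q.mul_mem q3 q3')]
  have cu : ∀ {a : G}, a ∈ Q → (u * a = a * u ↔ (a * x1 = x1 * a ↔ a * x1' = x1' * a)) :=
    fun ha => (swap_comm S).trans (S.comm_mul_iff ha q1 q1')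
  have cv : ∀ {a : G}, a ∈ Q → (v * a = a * v ↔ (a * x3 = x3 * a ↔ a * x3' = x3' * a)) :=
    fun ha => (swap_comm S).trans (S.comm_mul_iff ha q3 q3')
  have x1u : ¬ (u * x1 = x1 * u) := fun h => a11 ((((cu q1).1 h).1 rfl).symm)
  have x1v : v * x1 = x1 * v :=
    (cv q1).2 (iff_of_false (fun h => a13 h.symm) (fun h => a31 h.symm))
  have x3u : u * x3 = x3 * u := (cu q3).2 (iff_of_false a13 a13')
  have x3v : ¬ (v * x3 = x3 * v) := fun h => a33 ((((cv q3).1 h).1 rfl).symm)
  have uv : u * v = v * u := by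
    refine (cu vQ).2 (iff_of_true ?_ ?_)
    · exact x1v
    · exact (cv q1').2 (iff_of_false (fun h => a13' h.symm) (fun h => a31' h.symm))
  set D := S.QF.filter fun q => u * q = q * u ∧ v * q = q * v with hD
  -- four classes of equal size
  have shift : ∀ (t : G), t ∈ Q → ∀ (P R : G → Prop), (∀ q ∈ Q, (P (t * q) ↔ R q)) →
      (S.QF.filter P).card = (S.QF.filter R).card := by
    intro t ht P R h
    refine (Finset.card_bij (fun q _ => t * q) ?_ (fun _ _ _ _ e => mul_left_cancel e) ?_).symm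
    · intro q hq
      rw [Finset.mem_filter, S.mem_QF] at hq ⊢
      exact ⟨Q.mul_mem ht hq.1, (h q hq.1).2 hq.2⟩
    · intro b hb
      rw [Finset.mem_filter, S.mem_QF] at hb
      have hq : t⁻¹ * b ∈ Q := Q.mul_mem (Q.inv_mem ht) hb.1
      exact ⟨t⁻¹ * b, Finset.mem_filter.2 ⟨S.mem_QF.2 hq, (h _ hq).1 (by rw [mul_inv_cancel_left]; exact hb.2)⟩,
        mul_inv_cancel_left t b⟩
  have hDc : D.card = 8 := by
    have hu1 : ∀ q ∈ Q, (u * (x1 * q) = x1 * q * u ↔ ¬ u * q = q * u) := fun q hq => by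
      rw [S.comm_mul_iff uQ q1 hq]; exact ⟨fun h e => x1u (h.2 e), fun h => iff_of_false x1u h⟩
    have hv1 : ∀ q ∈ Q, (v * (x1 * q) = x1 * q * v ↔ v * q = q * v) := fun q hq => by
      rw [S.comm_mul_iff vQ q1 hq]; exact ⟨fun h => h.1 x1v, fun h => iff_of_true x1v h⟩
    have hu3 : ∀ q ∈ Q, (u * (x3 * q) = x3 * q * u ↔ u * q = q * u) := fun q hq => by
      rw [S.comm_mul_iff uQ q3 hq]; exact ⟨fun h => h.1 x3u, fun h => iff_of_true x3u h⟩
    have hv3 : ∀ q ∈ Q, (v * (x3 * q) = x3 * q * v ↔ ¬ v * q = q * v) := fun q hq => by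
      rw [S.comm_mul_iff vQ q3 hq]; exact ⟨fun h e => x3v (h.2 e), fun h => iff_of_false x3v h⟩
    have f1 := shift x1 q1 (fun q => ¬ u * q = q * u ∧ v * q = q * v)
      (fun q => u * q = q * u ∧ v * q = q * v) fun q hq => by rw [hu1 q hq, hv1 q hq, not_not]
    have f2 := shift x3 q3 (fun q => u * q = q * u ∧ ¬ v * q = q * v)
      (fun q => u * q = q * u ∧ v * q = q * v) fun q hq => by rw [hu3 q hq, hv3 q hq, not_not]
    have f3 := shift x3 q3 (fun q => ¬ u * q = q * u ∧ ¬ v * q = q * v)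
      (fun q => ¬ u * q = q * u ∧ v * q = q * v) fun q hq => by rw [hu3 q hq, hv3 q hq, not_not]
    have g1 := Finset.card_filter_add_card_filter_not (s := S.QF) (fun q => u * q = q * u)
    have g2 := Finset.card_filter_add_card_filter_not
      (s := S.QF.filter fun q => u * q = q * u) (fun q => v * q = q * v)
    have g3 := Finset.card_filter_add_card_filter_not
      (s := S.QF.filter fun q => ¬ u * q = q * u) (fun q => v * q = q * v)
    let k : (G → Prop) → ℕ := fun P => (S.QF.filter P).card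
    have F1 : k (fun q => ¬ u * q = q * u ∧ v * q = q * v) = k (fun q => u * q = q * u ∧ v * q = q * v) := f1
    have F2 : k (fun q => u * q = q * u ∧ ¬ v * q = q * v) = k (fun q => u * q = q * u ∧ v * q = q * v) := f2
    have F3 : k (fun q => ¬ u * q = q * u ∧ ¬ v * q = q * v) =
        k (fun q => ¬ u * q = q * u ∧ v * q = q * v) := f3
    have G2 : k (fun q => u * q = q * u ∧ v * q = q * v) + k (fun q => u * q = q * u ∧ ¬ v * q = q * v) =
        k (fun q => u * q = q * u) := by
      simp only [k]; rw [← g2]; congr 1 <;> congr 1 <;> ext q <;> simp [and_assoc]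
    have G3 : k (fun q => ¬ u * q = q * u ∧ v * q = q * v) +
        k (fun q => ¬ u * q = q * u ∧ ¬ v * q = q * v) = k (fun q => ¬ u * q = q * u) := by
      simp only [k]
      refine Eq.trans ?_ (g3.trans ?_)
      · congr 1 <;> congr 1 <;> ext q <;> simp [and_assoc]
      · congr 1; ext q; simp
    have G1 : k (fun q => u * q = q * u) + k (fun q => ¬ u * q = q * u) = 32 := by
      simp only [k]; rw [← S.card_QF, ← g1]; congr 1 <;> congr 1 <;> ext q <;> simp
    have HD : D.card = k (fun q => u * q = q * u ∧ v * q = q * v) := by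
      simp only [k, hD]; congr 1; ext q; simp
    clear_value k
    omega
  have u1 : u ≠ 1 := fun h => S.z_ne (by rw [← usq, h, one_mul])
  have v1 : v ≠ 1 := fun h => S.z_ne (by rw [← vsq, h, one_mul])
  have uz : u ≠ z := fun h => S.z_ne (by rw [← usq, h, S.z_sq])
  have vz : v ≠ z := fun h => S.z_ne (by rw [← vsq, h, S.z_sq])
  have uv' : u ≠ v := fun h => x3v (h ▸ x3u)
  have uvz : u ≠ v * z := fun h => x3v (by
    have := x3u
    rw [h, mul_assoc v z, ← S.mul_z q3, ← mul_assoc, ← mul_assoc x3] at this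
    exact mul_right_cancel this)
  set E : Finset G := {1, z, u, u * z, v, v * z, u * v, u * v * z} with hE
  have zz := S.z_sq
  have hEc : E.card = 8 := by
    have hnd : List.Nodup [1, z, u, u * z, v, v * z, u * v, u * v * z] := by
      have key : ∀ a b : G, a = b * z → a * z = b := fun a b h => by rw [h, S.mul_zz]
      have huv1 : u * v ≠ 1 := fun h => uvz (by
        have : v = u⁻¹ := (eq_inv_of_mul_eq_one_right h)
        rw [this, inv_eq_of_mul_eq_one_right (show u * (u * z) = 1 by rw [← mul_assoc, usq, zz]),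
          S.mul_zz])
      have huvz1 : u * v ≠ z := fun h => uv' (mul_left_cancel (h.trans usq.symm)).symm
      simp only [List.nodup_cons, List.mem_cons, List.not_mem_nil, or_false, not_or, List.nodup_nil,
        and_true, not_false_eq_true]
      refine ⟨⟨S.z_ne.symm, u1.symm, fun h => uz (by simpa using (key _ _ h).symm), v1.symm,
          fun h => vz (by simpa using (key _ _ h).symm), huv1.symm,
          fun h => huvz1 (by simpa using (key _ _ h).symm)⟩,
        ⟨uz.symm, fun h => u1 (mul_eq_right.1 h.symm), vz.symm,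
          fun h => v1 (mul_eq_right.1 h.symm), huvz1.symm, fun h => huv1 (mul_eq_right.1 h.symm)⟩,
        ⟨fun h => S.z_ne (mul_eq_left.1 h.symm), uv', uvz,
          fun h => v1 (mul_eq_left.1 h.symm), fun h => vz (by
            have := mul_eq_left.1 ((mul_assoc u v z).symm.trans h.symm)
            simpa using (key 1 v this.symm).symm)⟩,
        ⟨fun h => uvz (key _ _ h.symm).symm, fun h => uv' (mul_right_cancel h),
          fun h => vz (mul_left_cancel h).symm,
          fun h => v1 (mul_eq_left.1 (mul_right_cancel h).symm)⟩,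
        ⟨fun h => S.z_ne (mul_eq_left.1 h.symm), fun h => u1 (mul_eq_right.1 h.symm), fun h => uz (by
            rw [mul_assoc, S.mul_z vQ, ← mul_assoc] at h
            have := mul_eq_right.1 h.symm
            simpa using (key 1 u this.symm).symm)⟩,
        ⟨fun h => uz (mul_right_cancel (h.symm.trans (S.mul_z vQ))),
          fun h => u1 (mul_eq_right.1 (mul_right_cancel h).symm)⟩,
        fun h => S.z_ne (mul_eq_left.1 h.symm)⟩
    have : E = [1, z, u, u * z, v, v * z, u * v, u * v * z].toFinset := by simp [hE]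
    rw [this, List.toFinset_card_of_nodup hnd]; rfl
  have hED : E ⊆ D := by
    have mk : ∀ {a : G}, a ∈ Q → u * a = a * u → v * a = a * v → a ∈ D := fun h1 h2 h3 =>
      Finset.mem_filter.2 ⟨S.mem_QF.2 h1, h2, h3⟩
    have d1 : (1 : G) ∈ D := mk Q.one_mem (by simp) (by simp)
    have dm : ∀ {a b : G}, a ∈ D → b ∈ D → a * b ∈ D := fun ha hb => by
      simp only [hD, Finset.mem_filter, S.mem_QF] at ha hb ⊢
      exact ⟨Q.mul_mem ha.1 hb.1, (Commute.mul_right (show Commute u _ from ha.2.1) hb.2.1).eq,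
        (Commute.mul_right (show Commute v _ from ha.2.2) hb.2.2).eq⟩
    have dz : z ∈ D := mk S.z_mem (S.mul_z uQ) (S.mul_z vQ)
    have du : u ∈ D := mk uQ rfl uv.symm
    have dv : v ∈ D := mk vQ uv rfl
    intro a ha
    simp only [hE, Finset.mem_insert, Finset.mem_singleton] at ha
    rcases ha with rfl | rfl | rfl | rfl | rfl | rfl | rfl | rfl
    exacts [d1, dz, du, dm du dz, dv, dm dv dz, dm du dv, dm (dm du dv) dz]
  have hDE : E = D := Finset.eq_of_subset_of_card_le hED (by rw [hEc, hDc])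
  have cz : y * z * y⁻¹ = z := by rw [hzy, mul_inv_cancel_right]
  have cm : ∀ a b : G, y * (a * b) * y⁻¹ = (y * a * y⁻¹) * (y * b * y⁻¹) := fun a b => by group
  have yuv : y * (u * v) * y⁻¹ = u * v := by
    rw [cm, yu, yv, mul_assoc u z, ← mul_assoc z v, ← S.mul_z vQ, mul_assoc v z z, zz, mul_one]
  -- the fixed pair is centralized
  have hx0D : x0 ∈ D := Finset.mem_filter.2 ⟨S.mem_QF.2 q0,
    (cu q0).2 (iff_of_false (fun h => a01 h.symm) (fun h => a01' h.symm)),
    (cv q0).2 (iff_of_false (fun h => a03 h.symm) (fun h => a03' h.symm))⟩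
  have hx0y : y * x0 * y⁻¹ = x0 := by
    rw [← hDE] at hx0D
    simp only [hE, Finset.mem_insert, Finset.mem_singleton] at hx0D
    obtain ⟨-, hsq, h01, h0z⟩ := S.mem_X.1 hx0
    have nz : ∀ {a : G}, a ∈ Q → a * a = z → a * z * (a * z) = z := fun ha h => by
      rw [mul_assoc _ z, ← mul_assoc z, ← S.mul_z ha, mul_assoc _ z z, zz, mul_one, h]
    rcases hx0D with h | h | h | h | h | h | h | h
    · exact absurd h h01
    · exact absurd h h0z
    · rw [h, usq] at hsq; exact absurd hsq S.z_ne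
    · rw [h, nz uQ usq] at hsq; exact absurd hsq S.z_ne
    · rw [h, vsq] at hsq; exact absurd hsq S.z_ne
    · rw [h, nz vQ vsq] at hsq; exact absurd hsq S.z_ne
    · rw [h, yuv]
    · rw [h, cm, yuv, cz]
  refine ⟨?_, ?_, ?_⟩
  · rw [show (S.X.filter fun x => z ∈ Subgroup.zpowers (x * y)) = S.X.filter (fun x => x ∉ S.pr x0) from
      Finset.filter_congr fun x hx => ?_]
    · rw [show (S.X.filter fun x => x ∉ S.pr x0) = S.X \ S.pr x0 by ext; simp [Finset.mem_sdiff],
        Finset.card_sdiff_of_subset, S.card_X]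
      · rw [pr, Finset.card_pair (fun e => S.z_ne (mul_eq_left.1 e.symm))]
      · intro a ha
        rcases S.mem_pr.1 ha with rfl | rfl
        exacts [hx0, S.xz_mem hx0]
    obtain ⟨xQ, xsq, -, -⟩ := S.mem_X.1 hx
    constructor
    · intro hz hmem
      have hxy : y * x * y⁻¹ = x := by
        rcases S.mem_pr.1 hmem with rfl | rfl
        · exact hx0y
        · rw [cm, hx0y, cz]
      have hsq : (x * y) ^ 2 = 1 := by
        rw [pow_two, show x * y * (x * y) = x * (y * x * y⁻¹) * (y * y) by group, hxy, xsq, hy2, mul_one]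
      obtain ⟨k, hk⟩ := Subgroup.mem_zpowers_iff.1 hz
      rcases Int.even_or_odd k with ⟨m, rfl⟩ | ⟨m, rfl⟩
      · rw [← two_mul, zpow_mul, zpow_ofNat, hsq, one_zpow] at hk
        exact S.z_ne hk.symm
      · rw [zpow_add, zpow_mul, zpow_ofNat, hsq, one_zpow, one_mul, zpow_one] at hk
        exact hyQ (by rw [show y = x⁻¹ * z by rw [← hk]; group]; exact Q.mul_mem (Q.inv_mem xQ) S.z_mem)
    · intro hmem
      have hx' : y * x * y⁻¹ ∈ S.X := S.conj_X hy hx
      have hanti := S.anti_of_ne hx' hx (hmoved hx hmem)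
      set x' := y * x * y⁻¹ with hx'def
      refine Subgroup.mem_zpowers_iff.2 ⟨4, ?_⟩
      rw [show (x * y) ^ (4 : ℤ) = ((x * y) * (x * y)) * ((x * y) * (x * y)) by
          rw [zpow_ofNat]; simp only [pow_succ, pow_zero, one_mul]; group,
        show x * y * (x * y) = x * x' * (y * y) by rw [hx'def]; group, hy2, mul_one,
        show x * x' * (x * x') = x * (x' * x) * x' by group, hanti, ← mul_assoc x, S.mul_z xQ,
        show z * x * (x * x') * x' = z * (x * x) * (x' * x') by group, xsq,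
        (S.mem_X.1 hx').2.1, mul_one, mul_one]
  · have ez : ∀ {q : G}, q * y * (q * y) = 1 ↔ y * q * y⁻¹ = q⁻¹ := fun {q} => by
      rw [show q * y * (q * y) = q * (y * q * y⁻¹) * (y * y) by group, hy2, mul_one]
      exact ⟨fun h => (inv_eq_of_mul_eq_one_right h).symm, fun h => by rw [h, mul_inv_cancel]⟩
    rw [show (S.QF.filter fun q => q * y * (q * y) = 1) = D from ?_, hDc]
    ext q
    rw [Finset.mem_filter]
    constructor
    · rintro ⟨hq, h⟩
      rw [S.mem_QF] at hq
      rw [ez] at h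
      have hc : ∀ {a : G}, q⁻¹ * a = a * q⁻¹ ↔ q * a = a * q :=
        ⟨fun h => by simpa using (Commute.inv_left (show Commute q⁻¹ _ from h)).eq,
          fun h => (Commute.inv_left (show Commute q _ from h)).eq⟩
      have k1 : q * x1' = x1' * q ↔ q * x1 = x1 * q := by
        rw [← hc, ← h, hx1'def, conj_comm_iff S]
      have k3 : q * x3' = x3' * q ↔ q * x3 = x3 * q := by
        rw [← hc, ← h, hx3'def, conj_comm_iff S]
      exact Finset.mem_filter.2 ⟨S.mem_QF.2 hq, (cu hq).2 k1.symm, (cv hq).2 k3.symm⟩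
    · intro hq
      have hqQ : q ∈ Q := S.mem_QF.1 (Finset.mem_filter.1 hq).1
      refine ⟨S.mem_QF.2 hqQ, ez.2 ?_⟩
      rw [← hDE] at hq
      simp only [hE, Finset.mem_insert, Finset.mem_singleton] at hq
      have iu : u⁻¹ = u * z := inv_eq_of_mul_eq_one_right (by rw [← mul_assoc, usq, zz])
      have iv : v⁻¹ = v * z := inv_eq_of_mul_eq_one_right (by rw [← mul_assoc, vsq, zz])
      have iuv : (u * v)⁻¹ = u * v := by
        rw [mul_inv_rev, iu, iv, mul_assoc v z, ← mul_assoc z u, ← S.mul_z uQ, mul_assoc u z z, zz,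
          mul_one, ← uv]
      have iz : z⁻¹ = z := inv_eq_of_mul_eq_one_right zz
      have czu : z * u = u * z := (S.mul_z uQ).symm
      have czv : z * v = v * z := (S.mul_z vQ).symm
      rcases hq with rfl | rfl | rfl | rfl | rfl | rfl | rfl | rfl
      · group
      · rw [cz, iz]
      · rw [yu, iu]
      · rw [cm, yu, cz, mul_inv_rev, iz, iu, ← mul_assoc z, czu]
      · rw [yv, iv]
      · rw [cm, yv, cz, mul_inv_rev, iz, iv, ← mul_assoc z, czv]
      · rw [yuv, iuv]
      · rw [cm, yuv, cz, mul_inv_rev, iz, iuv, S.mul_z (Q.mul_mem uQ vQ)]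
  · intro q hq h
    have k1 : q * x1' = x1' * q ↔ q * x1 = x1 * q := by
      conv_lhs => rw [← h, hx1'def]
      exact S.conj_comm_iff
    have k3 : q * x3' = x3' * q ↔ q * x3 = x3 * q := by
      conv_lhs => rw [← h, hx3'def]
      exact S.conj_comm_iff
    have hD' : q ∈ D := Finset.mem_filter.2 ⟨S.mem_QF.2 hq, (cu hq).2 k1.symm, (cv hq).2 k3.symm⟩
    rw [← hDE] at hD'
    simp only [hE, Finset.mem_insert, Finset.mem_singleton] at hD'
    have iuv : u * v * (u * v) = 1 := by
      rw [show u * v * (u * v) = u * (v * u) * v by group, ← uv,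
        show u * (u * v) * v = (u * u) * (v * v) by group, usq, vsq, zz]
    rcases hD' with rfl | rfl | rfl | rfl | rfl | rfl | rfl | rfl
    · exact one_mul 1
    · exact zz
    · exact absurd (mul_eq_left.1 (yu.symm.trans h)) S.z_ne
    · rw [cm, yu, cz, S.mul_zz] at h
      exact absurd (mul_eq_left.1 h.symm) S.z_ne
    · exact absurd (mul_eq_left.1 (yv.symm.trans h)) S.z_ne
    · rw [cm, yv, cz, S.mul_zz] at h
      exact absurd (mul_eq_left.1 h.symm) S.z_ne
    · exact iuv
    · rw [show u * v * z * (u * v * z) = u * v * (z * (u * v)) * z by group,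
        ← S.mul_z (Q.mul_mem uQ vQ), show u * v * (u * v * z) * z = u * v * (u * v) * (z * z) by group,
        iuv, zz, one_mul]

end CfsgLib.J2Order.Setup
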