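import Cfsg.Agent.Lib.J2Order.Extra
import Mathlib.GroupTheory.SpecificGroups.Alternating.Simple
import Mathlib.Logic.Equiv.Fintype

/-!
The five pairs of involutions of `Q` and the involutions outside `Q`.
-/

set_option autoImplicit false

open scoped Classical

namespace CfsgLib.J2Order.Setup

variable {G : Type*} [Group G] [Finite G] {z : G} {Q K C : Subgroup G} (S : Setup z Q K C)
include S

/-- The pair of `x`. -/
noncomputable def pr (_ : Setup z Q K C) (x : G) : Finset G := {x, x * z}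

theorem mem_pr {a x : G} : a ∈ S.pr x ↔ a = x ∨ a = x * z := by simp [pr]

theorem mul_zz (x : G) : x * z * z = x := by rw [mul_assoc, S.z_sq, mul_one]

theorem pr_eq {a x : G} (h : a ∈ S.pr x) : S.pr a = S.pr x := by
  rcases S.mem_pr.1 h with rfl | rfl
  · rfl
  · ext b; simp [pr, S.mul_zz, or_comm]

/-- The five pairs. -/
noncomputable def P (S : Setup z Q K C) : Finset (Finset G) := S.X.image S.pr

theorem card_P : S.P.card = 5 := by
  have h := Finset.card_eq_sum_card_image S.pr S.X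
  rw [S.card_X, Finset.sum_const_nat (m := 2), show S.X.image S.pr = S.P from rfl] at h
  · omega
  intro p hp
  obtain ⟨x, hx, rfl⟩ := Finset.mem_image.1 hp
  rw [show S.X.filter (fun a => S.pr a = S.pr x) = S.pr x from ?_]
  · exact Finset.card_pair (fun e => S.z_ne (mul_eq_left.1 e.symm))
  ext a
  rw [Finset.mem_filter]
  refine ⟨fun h => ?_, fun h => ⟨?_, S.pr_eq h⟩⟩
  · rw [← h.2]; simp [pr]
  · rcases S.mem_pr.1 h with rfl | rfl
    exacts [hx, S.xz_mem hx]

theorem image_pr {c : G} (hc : c ∈ C) (x : G) :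
    (S.pr x).image (fun a => c * a * c⁻¹) = S.pr (c * x * c⁻¹) := by
  have : c * (x * z) * c⁻¹ = c * x * c⁻¹ * z := by
    calc c * (x * z) * c⁻¹ = c * x * (z * c⁻¹) := by group
      _ = c * x * (c⁻¹ * z) := by rw [S.z_cen c⁻¹ (C.inv_mem hc)]
      _ = c * x * c⁻¹ * z := by group
  simp [pr, Finset.image_insert, this]

theorem conj_P {c : G} (hc : c ∈ C) {p : Finset G} (hp : p ∈ S.P) :
    p.image (fun a => c * a * c⁻¹) ∈ S.P := by
  obtain ⟨x, hx, rfl⟩ := Finset.mem_image.1 hp
  rw [S.image_pr hc]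
  exact Finset.mem_image_of_mem _ (S.conj_X hc hx)

/-- The action on the five pairs. -/
noncomputable def ρ (S : Setup z Q K C) : C →* Equiv.Perm S.P where
  toFun c :=
    { toFun := fun p => ⟨_, S.conj_P c.2 p.2⟩
      invFun := fun p => ⟨_, S.conj_P (C.inv_mem c.2) p.2⟩
      left_inv := fun p => Subtype.ext (by simp [Finset.image_image, Function.comp_def, mul_assoc])
      right_inv := fun p => Subtype.ext (by simp [Finset.image_image, Function.comp_def, mul_assoc]) }
  map_one' := by ext p : 2; simp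
  map_mul' c d := by ext p : 2; simp [Finset.image_image, Function.comp_def, mul_assoc]

theorem ρ_pr (c : C) {x : G} (hx : x ∈ S.X) :
    ((S.ρ c ⟨S.pr x, Finset.mem_image_of_mem _ hx⟩ : S.P) : Finset G) =
      S.pr ((c : G) * x * (c : G)⁻¹) :=
  S.image_pr c.2 x

theorem ρ_Q {q : C} (hq : (q : G) ∈ Q) : S.ρ q = 1 := by
  refine Equiv.ext fun ⟨p, hp⟩ => Subtype.ext ?_
  obtain ⟨x, hx, rfl⟩ := Finset.mem_image.1 hp
  rw [S.ρ_pr q hx]
  show _ = S.pr x
  refine S.pr_eq (S.mem_pr.2 ?_)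
  have hxQ := (S.mem_X.1 hx).1
  rcases S.comm _ hq _ hxQ with h | h
  · exact Or.inl (mul_inv_eq_iff_eq_mul.2 h)
  · exact Or.inr (mul_inv_eq_iff_eq_mul.2 (by rw [h, mul_assoc x z, ← S.mul_z hq, ← mul_assoc x, ← S.mul_z (Q.mul_mem hxQ hq)]))

/-- The restriction to `K`. -/
noncomputable def ρK (S : Setup z Q K C) : K →* Equiv.Perm S.P :=
  S.ρ.comp (Subgroup.inclusion S.K_le)

theorem ρK_injective : Function.Injective S.ρK := by
  obtain ⟨e⟩ := S.equivK
  haveI : IsSimpleGroup (alternatingGroup (Fin 5)) := alternatingGroup.isSimpleGroup_five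
  haveI : Nontrivial K := e.toEquiv.nontrivial
  haveI : IsSimpleGroup K := MulEquiv.isSimpleGroup e
  rw [← MonoidHom.ker_eq_bot_iff]
  rcases IsSimpleGroup.eq_bot_or_eq_top_of_normal S.ρK.ker inferInstance with h | h
  · exact h
  exfalso
  obtain ⟨k, hk, h5, h1⟩ := S.exists_five
  have hkC := S.K_le hk
  obtain ⟨x, hx⟩ : S.X.Nonempty := by rw [← Finset.card_pos, S.card_X]; norm_num
  have hker : S.ρK ⟨k, hk⟩ = 1 := MonoidHom.mem_ker.1 (h ▸ Subgroup.mem_top _)
  have hpr : S.pr (k * x * k⁻¹) = S.pr x := by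
    have := S.ρ_pr ⟨k, hkC⟩ hx
    rw [show S.ρ ⟨k, hkC⟩ = 1 from hker] at this
    exact this.symm
  have hxQ := (S.mem_X.1 hx).1
  have hcase : k * x * k⁻¹ = x ∨ k * x * k⁻¹ = x * z :=
    S.mem_pr.1 (hpr ▸ Finset.mem_insert_self _ _)
  have h2 : k ^ 2 * x = x * k ^ 2 := by
    apply mul_inv_eq_iff_eq_mul.1
    rw [show k ^ 2 * x * (k ^ 2)⁻¹ = k * (k * x * k⁻¹) * k⁻¹ by rw [pow_two]; group]
    rcases hcase with e1 | e1
    · rw [e1, e1]
    · rw [e1, show k * (x * z) * k⁻¹ = k * x * (z * k⁻¹) by group, ← S.z_cen k⁻¹ (C.inv_mem hkC),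
        show k * x * (k⁻¹ * z) = k * x * k⁻¹ * z by group, e1, S.mul_zz]
  have hxk : k * x = x * k := by
    have hk6 : k = (k ^ 2) ^ 3 := by rw [← pow_mul, show 2 * 3 = 5 + 1 from rfl, pow_succ, h5, one_mul]
    rw [hk6]
    exact (Commute.pow_left h2 3).eq
  obtain ⟨-, -, hx1, hxz⟩ := S.mem_X.1 hx
  rcases S.five_centralizer hk h5 h1 hxQ hxk with e1 | e1
  exacts [hx1 e1, hxz e1]

theorem card_K : Nat.card K = 60 := by
  obtain ⟨e⟩ := S.equivK
  rw [Nat.card_congr e.toEquiv, nat_card_alternatingGroup, Nat.card_eq_fintype_card, Fintype.card_fin]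
  decide

theorem sign_ρK (k : K) : Equiv.Perm.sign (S.ρK k) = 1 := by
  obtain ⟨e⟩ := S.equivK
  haveI : IsSimpleGroup (alternatingGroup (Fin 5)) := alternatingGroup.isSimpleGroup_five
  haveI : Nontrivial K := e.toEquiv.nontrivial
  haveI : IsSimpleGroup K := MulEquiv.isSimpleGroup e
  set f : K →* ℤˣ := Equiv.Perm.sign.comp S.ρK
  rcases IsSimpleGroup.eq_bot_or_eq_top_of_normal f.ker inferInstance with h | h
  · exfalso
    have := Nat.card_le_card_of_injective _ ((MonoidHom.ker_eq_bot_iff f).1 h)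
    rw [S.card_K, Nat.card_eq_fintype_card, Fintype.card_units_int] at this
    omega
  · exact MonoidHom.mem_ker.1 (h ▸ Subgroup.mem_top k : k ∈ f.ker)

theorem range_ρK : S.ρK.range = alternatingGroup S.P := by
  refine Subgroup.eq_of_le_of_card_ge ?_ ?_
  · rintro _ ⟨k, rfl⟩
    exact Equiv.Perm.mem_alternatingGroup.2 (S.sign_ρK k)
  · have hc : Nat.card S.P = 5 := by rw [Nat.card_eq_fintype_card, Fintype.card_coe, S.card_P]
    haveI : Nontrivial S.P := Finite.one_lt_card_iff_nontrivial.1 (by omega)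
    rw [nat_card_alternatingGroup, hc, ← Nat.card_congr (MonoidHom.ofInjective S.ρK_injective).toEquiv,
      S.card_K]
    decide

/-- Involutions of different pairs do not commute. -/
theorem anti_of_ne {x y : G} (hx : x ∈ S.X) (hy : y ∈ S.X) (hne : S.pr x ≠ S.pr y) :
    x * y = z * (y * x) := by
  refine (S.comm x (S.mem_X.1 hx).1 y (S.mem_X.1 hy).1).resolve_left fun hxy => ?_
  -- then all the involutions of `Q` commute
  have all : ∀ a ∈ S.X, ∀ b ∈ S.X, a * b = b * a := by
    intro a ha b hb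
    by_cases hab : S.pr a = S.pr b
    · rcases S.mem_pr.1 (hab ▸ Finset.mem_insert_self _ _ : a ∈ S.pr b) with rfl | rfl
      · rfl
      · rw [mul_assoc b z b, ← S.mul_z (S.mem_X.1 hb).1]
    · have hc : Fintype.card S.P = 5 := by rw [Fintype.card_coe, S.card_P]
      let p : Fin 2 → S.P := ![⟨_, Finset.mem_image_of_mem _ hx⟩, ⟨_, Finset.mem_image_of_mem _ hy⟩]
      let r : Fin 2 → S.P := ![⟨_, Finset.mem_image_of_mem _ ha⟩, ⟨_, Finset.mem_image_of_mem _ hb⟩]
      have hpi : Function.Injective p := by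
        intro i j h; fin_cases i <;> fin_cases j <;>
          first | rfl | (exfalso; first | exact hne (congrArg Subtype.val h) | exact hne (congrArg Subtype.val h).symm)
      have hri : Function.Injective r := by
        intro i j h; fin_cases i <;> fin_cases j <;>
          first | rfl | (exfalso; first | exact hab (congrArg Subtype.val h) | exact hab (congrArg Subtype.val h).symm)
      let e : {s // s ∈ Set.range p} ≃ {s // s ∈ Set.range r} :=
        (Equiv.ofInjective p hpi).symm.trans (Equiv.ofInjective r hri)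
      have he : ∀ i, e.extendSubtype (p i) = r i := by
        intro i
        rw [Equiv.extendSubtype_apply_of_mem e (p i) ⟨i, rfl⟩]
        simp [e]
      obtain ⟨b1, hb1, b2, hb2, hb12⟩ := Finset.one_lt_card.1
        (show 1 < ({p 0, p 1} : Finset S.P)ᶜ.card by
          rw [Finset.card_compl, Finset.card_pair (fun h => by simpa using hpi h), hc]; norm_num)
      simp only [Finset.mem_compl, Finset.mem_insert, Finset.mem_singleton, not_or] at hb1 hb2
      obtain ⟨σ, hσ, hσ0, hσ1⟩ : ∃ σ : Equiv.Perm S.P, Equiv.Perm.sign σ = 1 ∧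
          σ (p 0) = r 0 ∧ σ (p 1) = r 1 := by
        rcases Int.units_eq_one_or (Equiv.Perm.sign e.extendSubtype) with h | h
        · exact ⟨_, h, he 0, he 1⟩
        · refine ⟨e.extendSubtype * Equiv.swap b1 b2, ?_, ?_, ?_⟩
          · rw [Equiv.Perm.sign_mul, h, Equiv.Perm.sign_swap hb12]; decide
          · rw [Equiv.Perm.mul_apply, Equiv.swap_apply_of_ne_of_ne (Ne.symm hb1.1) (Ne.symm hb2.1), he]
          · rw [Equiv.Perm.mul_apply, Equiv.swap_apply_of_ne_of_ne (Ne.symm hb1.2) (Ne.symm hb2.2), he]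
      obtain ⟨k, hk⟩ : σ ∈ S.ρK.range := by
        rw [S.range_ρK]; exact Equiv.Perm.mem_alternatingGroup.2 hσ
      have hkC := S.K_le k.2
      have key : ∀ {u w : G}, ∀ hu' : u ∈ S.X, (r' : S.P) → (r' : Finset G) = S.pr w →
          S.ρK k ⟨S.pr u, Finset.mem_image_of_mem _ hu'⟩ = r' →
          w = (k : G) * u * (k : G)⁻¹ ∨ w = (k : G) * u * (k : G)⁻¹ * z := by
        intro u w hu r' hr' hru
        have h1 := S.ρ_pr ⟨k, hkC⟩ hu
        have h2 : S.pr ((k : G) * u * (k : G)⁻¹) = S.pr w := by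
          rw [← hr', ← hru]; exact h1.symm
        exact S.mem_pr.1 (h2.symm ▸ Finset.mem_insert_self _ _)
      rw [← hk] at hσ0 hσ1
      have hA := key hx (r 0) rfl hσ0
      have hB := key hy (r 1) rfl hσ1
      have hcomm : Commute ((k : G) * x * (k : G)⁻¹) ((k : G) * y * (k : G)⁻¹) :=
        Commute.conj_iff _ |>.2 hxy
      have hzA : Commute z ((k : G) * x * (k : G)⁻¹) :=
        (S.mul_z (S.mem_X.1 (S.conj_X hkC hx)).1).symm
      have hzB : Commute z ((k : G) * y * (k : G)⁻¹) :=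
        (S.mul_z (S.mem_X.1 (S.conj_X hkC hy)).1).symm
      rcases hA with rfl | rfl <;> rcases hB with rfl | rfl
      · exact hcomm.eq
      · exact (hcomm.mul_right hzA.symm).eq
      · exact (hcomm.mul_left hzB).eq
      · exact ((hcomm.mul_right hzA.symm).mul_left (hzB.mul_right (Commute.refl z))).eq
  -- so they form a subgroup of order 12
  let H : Subgroup G :=
  { carrier := {a | a ∈ Q ∧ a * a = 1}
    one_mem' := ⟨Q.one_mem, one_mul 1⟩
    mul_mem' := by
      rintro a b ⟨ha, ha2⟩ ⟨hb, hb2⟩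
      refine ⟨Q.mul_mem ha hb, ?_⟩
      have hab : a * b = b * a := by
        by_cases h1 : a = 1
        · simp [h1]
        by_cases h2 : a = z
        · rw [h2]; exact (S.mul_z hb).symm
        by_cases h3 : b = 1
        · simp [h3]
        by_cases h4 : b = z
        · rw [h4]; exact S.mul_z ha
        exact all a (S.mem_X.2 ⟨ha, ha2, h1, h2⟩) b (S.mem_X.2 ⟨hb, hb2, h3, h4⟩)
      rw [show a * b * (a * b) = a * (b * a) * b by group, ← hab,
        show a * (a * b) * b = (a * a) * (b * b) by group, ha2, hb2, one_mul]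
    inv_mem' := by
      rintro a ⟨ha, ha2⟩
      exact ⟨Q.inv_mem ha, by rw [← mul_inv_rev, ha2, inv_one]⟩ }
  have hdvd : Nat.card H ∣ Nat.card Q := Subgroup.card_dvd_of_le fun a ha => ha.1
  have hH : Nat.card H = (insert 1 (insert z S.X)).card := by
    rw [show Nat.card H = (H : Set G).ncard from Nat.card_coe_set_eq (H : Set G),
      ← Set.ncard_coe_finset]
    congr 1
    ext a
    simp only [Finset.coe_insert, Set.mem_insert_iff, Finset.mem_coe, S.mem_X]
    refine ⟨fun h => ?_, ?_⟩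
    · by_cases h1 : a = 1
      · exact Or.inl h1
      · by_cases h2 : a = z
        · exact Or.inr (Or.inl h2)
        · exact Or.inr (Or.inr ⟨h.1, h.2, h1, h2⟩)
    · rintro (rfl | rfl | ⟨h1, h2, -⟩)
      · exact H.one_mem
      · exact ⟨S.z_mem, S.z_sq⟩
      · exact ⟨h1, h2⟩
  rw [hH, S.cardQ, Finset.card_insert_of_notMem (by simp [S.mem_X, S.z_ne.symm]),
    Finset.card_insert_of_notMem (by simp [S.mem_X]), S.card_X] at hdvd
  norm_num at hdvd

theorem ρ_invol {y : C} (hy : (y : G) * y = 1) (hyQ : (y : G) ∉ Q) :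
    ∃ p : S.P, S.ρ y p = p ∧ ∀ r, S.ρ y r = r → r = p := by
  obtain ⟨q, hq, k, hk, hqk⟩ := S.decomp _ y.2
  have hyk : S.ρ y = S.ρK ⟨k, hk⟩ := by
    have : y = ⟨q, S.Q_le hq⟩ * ⟨k, S.K_le hk⟩ := Subtype.ext hqk
    rw [this, map_mul, S.ρ_Q (q := ⟨q, S.Q_le hq⟩) hq, one_mul]; rfl
  have hk1 : k ≠ 1 := fun h => hyQ (by rw [hqk, h, mul_one]; exact hq)
  have hne : S.ρ y ≠ 1 := by
    rw [hyk]
    intro h
    exact hk1 (congrArg Subtype.val (S.ρK_injective (h.trans (map_one _).symm)))
  have hsq : S.ρ y * S.ρ y = 1 := by rw [← map_mul, show y * y = 1 from Subtype.ext hy, map_one]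
  have hsign : Equiv.Perm.sign (S.ρ y) = 1 := hyk ▸ S.sign_ρK _
  let e : S.P ≃ Fin 5 := Fintype.equivFinOfCardEq (by rw [Fintype.card_coe, S.card_P])
  obtain ⟨i, hi, hu⟩ := perm5_fix (e.permCongr (S.ρ y)) (by rw [Equiv.Perm.sign_permCongr, hsign])
    (by rw [← Equiv.permCongrHom_coe e, ← map_mul, hsq, map_one])
    (fun h => hne ((e.permCongrHom).injective ((congrFun (Equiv.permCongrHom_coe e) _).trans (h.trans (map_one _).symm))))
  refine ⟨e.symm i, ?_, fun r hr => ?_⟩
  · rw [Equiv.permCongr_apply] at hi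
    exact e.injective (by simpa using hi)
  · apply e.injective
    rw [Equiv.apply_symm_apply]
    exact hu (e r) (by rw [Equiv.permCongr_apply, Equiv.symm_apply_apply, hr])

end CfsgLib.J2Order.Setup
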